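import Groth.Agent.NumBddLib.Defs
import Groth.Agent.CMRegLib.Family

/-!
# From the structure sheaf to all coherent modules
-/

set_option autoImplicit false
set_option backward.isDefEq.respectTransparency false
set_option linter.style.haveILetI false

universe u

open CategoryTheory CategoryTheory.Limits AlgebraicGeometry TopologicalSpace
open Groth.Agent.DCohLib Groth.Agent.AmpleLib Groth.Agent.PullbackMod

noncomputable section

namespace Groth.Agent.NumBdd

variable (k : Type u) [Field k] {n : ℕ} {X : Scheme.{u}} (i : X ⟶ CohB1.ProjSpace n k)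

/-- The twist of a twist. -/
def twTw (Q : X.Modules) {a j c : ℤ} (h : a + j = c) :
    T k i ((Scheme.Modules.pullback i).obj (Twist.twistProjSpace n k a)) Q j ≅ T k i (Coh.structureModule X) Q c :=
  tIso (comm _ Q) (Iso.refl _) ≪≫ CMRegLib.xMulIso k i Q h ≪≫ tIso (unitL Q).symm (Iso.refl _)

variable [X.Over (Spec (CommRingCat.of k))]

theorem UV.twist (h : UV k i (Coh.structureModule X)) (a : ℤ) :
    UV k i ((Scheme.Modules.pullback i).obj (Twist.twistProjSpace n k a)) := by
  obtain ⟨j₀, hj⟩ := h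
  exact ⟨j₀ - a, fun Q hQ hn j hle p hp =>
    Nakai.subsingleton_HH_iso (twTw k i Q rfl).symm p (hj Q hQ hn (a + j) (by omega) p hp)⟩

variable [IsProper (X ↘ Spec (CommRingCat.of k))]

theorem UV.sum {b : ℕ} (f : Fin b → X.Modules) (h : ∀ v, UV k i (f v)) : UV k i (∐ f) :=
  haveI : HasFiniteBiproducts X.Modules := HasFiniteBiproducts.of_hasFiniteProducts
  CMRegLib.sigma_induction (fun M => UV k i M) (fun _ hZ => UV.zero hZ)
    (fun A B hA hB => UV.ext
      (S := ShortComplex.mk (biprod.inl : A ⟶ A ⊞ B) biprod.snd biprod.inl_snd)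
      (ShortComplex.Splitting.ofHasBinaryBiproduct A B).shortExact hA hB)
    (fun e h => h.of_iso e) f h

omit [X.Over (Spec (CommRingCat.of k))] [IsProper (X ↘ Spec (CommRingCat.of k))] in
theorem vanish_high_X [IsClosedImmersion i] {M : X.Modules} (hM : Coh.IsCoh M) (d : ℤ) {p : ℕ} (hp : n < p) :
    Subsingleton (Coh.HH X (Pic13.twistOn k i M d) p) :=
  (CMRegLib.HT_push_iff i hM d p).1 (CMRegLib.vanish_high (CMRegLib.isCoh_push_closed i hM) d hp)

variable [IsClosedImmersion i]

/-- Every coherent module is a quotient of a sum of twists. -/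
theorem exists_epi_twists {M : X.Modules} (hM : Coh.IsCoh M) :
    ∃ (a : ℤ) (b : ℕ) (φ : (∐ fun _ : Fin b => (Scheme.Modules.pullback i).obj (Twist.twistProjSpace n k a)) ⟶ M),
      Epi φ := by
  haveI := EulerIneqLib.isNoetherian_proper (X := X) k
  obtain ⟨N, hN⟩ := AmpleEmb.eventually_isGloballyGenerated
    (isAmple_pullback i (AmpleEmb.isAmple_twistOne n k)) hM
  have hg : Curv2.IsGloballyGenerated (Pic13.twistOn k i M (N : ℤ)) :=
    isGloballyGenerated_of_iso (tIso (Iso.refl M)
      ((pullPow i _ N).symm ≪≫ (Scheme.Modules.pullback i).mapIso (CMRegLib.powTwistIso N))) (hN N le_rfl)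
  have hc := isCoh_twistOn k i hM (N : ℤ)
  obtain ⟨b, q, hq⟩ := CMRegLib.exists_epi_free_qcoh hc.1 hc.2 hg
  obtain ⟨φ, hφ, -⟩ := CMRegLib.exists_twisted (isInvertible_xO k i (-(N : ℤ))) (F := M)
    (B := ∐ fun _ : Fin b => (Scheme.Modules.pullback i).obj (Twist.twistProjSpace n k (-(N : ℤ))))
    q (CMRegLib.xMulIso k i M (show (N : ℤ) + -(N : ℤ) = 0 by ring) ≪≫
      tIso (Iso.refl M) ((Scheme.Modules.pullback i).mapIso (asIso (ProjCoh.unitToTwist (CohB1.polyGrading n k))).symm ≪≫
        pullO i) ≪≫ unitR M)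
    (CMRegLib.sigmaUnitIso _ b)
  exact ⟨_, b, φ, hφ⟩

/-- Uniform vanishing for all coherent modules. -/
theorem UV.all (h : UV k i (Coh.structureModule X)) {M : X.Modules} (hM : Coh.IsCoh M) : UV k i M := by
  haveI := EulerIneqLib.isNoetherian_proper (X := X) k
  have key : ∀ t : ℕ, ∀ W : X.Modules, Coh.IsCoh W → ∃ j₀ : ℤ, ∀ Q : X.Modules, PicF.IsInvertible Q →
      Pic13.IsNumEquivZero k X Q → ∀ j, j₀ ≤ j → ∀ p, 0 < p → n + 1 ≤ p + t → Subsingleton (Coh.HH X (T k i W Q j) p) := by
    intro t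
    induction t with
    | zero =>
      exact fun W hW => ⟨0, fun Q hQ _ j _ p _ hp =>
        vanish_high_X k i (CMRegLib.isCoh_tensor_inv hW hQ) j (by omega)⟩
    | succ t ih =>
      intro W hW
      obtain ⟨a, b, φ, hφ⟩ := exists_epi_twists k i hW
      have hE : Coh.IsCoh (∐ fun _ : Fin b => (Scheme.Modules.pullback i).obj (Twist.twistProjSpace n k a)) :=
        CMRegLib.isCoh_sigma_fin _ fun _ => CurveLib.isCoh_of_isInvertible (isInvertible_xO k i a)
      obtain ⟨j₁, h₁⟩ := UV.sum k i (fun _ : Fin b => (Scheme.Modules.pullback i).obj (Twist.twistProjSpace n k a))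
        fun _ => UV.twist k i h a
      obtain ⟨j₂, h₂⟩ := ih _ (QCohLib.isCoh_kernel_cokernel φ hE hW).1
      refine ⟨max j₁ j₂, fun Q hQ hn j hj p hp0 hp => ?_⟩
      exact CMRegLib.subsingleton_right (shortExact_T k i (CMRegLib.shortExact_ker φ) hQ j) p
        (h₁ Q hQ hn j ((le_max_left _ _).trans hj) p hp0)
        (h₂ Q hQ hn j ((le_max_right _ _).trans hj) (p + 1) (by omega) (by omega))
  obtain ⟨j₀, hj⟩ := key (n + 1) M hM
  exact ⟨j₀, fun Q hQ hn j hle p hp => hj Q hQ hn j hle p hp (by omega)⟩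

end Groth.Agent.NumBdd
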