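import Groth.Agent.NumBddLib.Main
import Groth.Agent.H1ZeroLib.VeryAmple

/-!
# Uniform vanishing for powers of an ample module
-/

set_option autoImplicit false
set_option backward.isDefEq.respectTransparency false
set_option linter.style.haveILetI false

universe u

open CategoryTheory CategoryTheory.Limits AlgebraicGeometry TopologicalSpace
open Groth.Agent.DCohLib Groth.Agent.AmpleLib Groth.Agent.PullbackMod

noncomputable section

namespace Groth.Agent.NumBdd

variable (k : Type u) [Field k] {X : Scheme.{u}} [X.Over (Spec (CommRingCat.of k))]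
  [IsProper (X ↘ Spec (CommRingCat.of k))]

/-- Some positive power of an ample module embeds the scheme. -/
theorem exists_embedding_pow {L : X.Modules} (hL : CohB1.IsAmple L) :
    ∃ (a n : ℕ) (i : X ⟶ CohB1.ProjSpace n k), 0 < a ∧ IsClosedImmersion i ∧
      i ≫ CohB1.ProjSpace.toSpec n k = X ↘ Spec (CommRingCat.of k) ∧
      Nonempty ((Scheme.Modules.pullback i).obj (Twist.twistProjSpace n k 1) ≅ CohB1.tensorPow L a) := by
  obtain ⟨M, hM⟩ := AmpleEmb.eventually_isRelVeryAmplePn (X ↘ Spec (CommRingCat.of k)) hL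
  obtain ⟨n, i, hi, hf, he⟩ := H1ZeroLib.exists_closedImmersion_of_va k _ (hM (M + 1) M.le_succ)
  exact ⟨M + 1, n, i, M.succ_pos, hi, hf, he⟩

/-- `(F ⊗ N) ⊗ L^{aq+r} ≅ (F ⊗ L^r ⊗ N)(q)`. -/
def ampleTwistIso {n : ℕ} (i : X ⟶ CohB1.ProjSpace n k) {L : X.Modules} {a : ℕ}
    (e : (Scheme.Modules.pullback i).obj (Twist.twistProjSpace n k 1) ≅ CohB1.tensorPow L a)
    (F N : X.Modules) {r q m : ℕ} (h : r + a * q = m) :
    T k i (CohB1.tensorMod F (CohB1.tensorPow L r)) N (q : ℤ) ≅
      CohB1.tensorMod (CohB1.tensorMod F N) (CohB1.tensorPow L m) :=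
  tIso (AmpleLib.assoc _ _ _ ≪≫ tIso (Iso.refl F) (comm _ N) ≪≫ (AmpleLib.assoc _ _ _).symm)
      ((Scheme.Modules.pullback i).mapIso (CMRegLib.powTwistIso q).symm ≪≫ pullPow i _ q ≪≫ powCongr e q ≪≫
        powMul L a q) ≪≫
    AmpleLib.assoc _ _ _ ≪≫ tIso (Iso.refl _) ((powAdd L r (a * q)).symm ≪≫
      eqToIso (congrArg (CohB1.tensorPow L) h))

/-- Twists by high powers of an ample module are uniformly acyclic in a numerical class. -/
theorem exists_uniform {L : X.Modules} (hL : CohB1.IsAmple L) {F : X.Modules} (hF : Coh.IsCoh F) :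
    ∃ m₀ : ℕ, ∀ N : X.Modules, PicF.IsInvertible N → Pic13.IsNumEquivZero k X N → ∀ m, m₀ ≤ m →
      (∀ p, 0 < p → Subsingleton (Coh.HH X (CohB1.tensorMod (CohB1.tensorMod F N) (CohB1.tensorPow L m)) p)) ∧
      Curv2.euler k X (CohB1.tensorMod (CohB1.tensorMod F N) (CohB1.tensorPow L m)) =
        Curv2.euler k X (CohB1.tensorMod F (CohB1.tensorPow L m)) := by
  haveI := EulerIneqLib.isNoetherian_proper (X := X) k
  obtain ⟨a, n, i, ha, hi, -, ⟨e⟩⟩ := exists_embedding_pow k hL
  have hc : ∀ r : ℕ, Coh.IsCoh (CohB1.tensorMod F (CohB1.tensorPow L r)) := fun r =>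
    CMRegLib.isCoh_tensor_inv hF (isInvertible_tensorPow hL.1 r)
  choose j₀ hj₀ using fun r => (allU k i (hc r)).1
  refine ⟨a * ((Finset.range a).sup fun r => (j₀ r).toNat), fun N hN hn m hm => ?_⟩
  have hq : (j₀ (m % a)).toNat ≤ m / a :=
    (Finset.le_sup (f := fun r => (j₀ r).toNat) (Finset.mem_range.2 (Nat.mod_lt m ha))).trans
      ((Nat.le_div_iff_mul_le ha).2 (by rwa [Nat.mul_comm]))
  have hdiv : m % a + a * (m / a) = m := Nat.mod_add_div m a
  refine ⟨fun p hp => Nakai.subsingleton_HH_iso (ampleTwistIso k i e F N hdiv) p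
    (hj₀ _ N hN hn _ ((Int.self_le_toNat _).trans (by exact_mod_cast hq)) p hp), ?_⟩
  rw [← CurveLib.euler_iso (K := k) (ampleTwistIso k i e F N hdiv), (allU k i (hc _)).2.1 N hN hn,
    ← (allU k i (hc _)).2.1 _ ParaFLib.isInvertible_structureModule (numTriv_unit k),
    CurveLib.euler_iso (K := k) (ampleTwistIso k i e F (Coh.structureModule X) hdiv)]
  exact CurveLib.euler_iso (K := k) (tIso (unitR F) (Iso.refl _))

/-- Numerically trivial twists preserve the Euler characteristic on a projective scheme. -/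
theorem euler_tensor_eq {H : X.Modules} (hH : CohB1.IsAmple H) {F : X.Modules} (hF : Coh.IsCoh F) {N : X.Modules}
    (hN : PicF.IsInvertible N) (hn : Pic13.IsNumEquivZero k X N) :
    Curv2.euler k X (CohB1.tensorMod F N) = Curv2.euler k X F := by
  obtain ⟨a, n, i, -, hi, -, -⟩ := exists_embedding_pow k hH
  refine (CurveLib.euler_iso (K := k) (twistZero k i _).symm).trans (((allU k i hF).2.1 N hN hn 0).trans ?_)
  exact CurveLib.euler_iso (K := k) (twistZero k i F)

end Groth.Agent.NumBdd
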