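import Groth.Agent.NumBddLib.Num
import Groth.Agent.CMRegLib.QuotBound
import Groth.Agent.VolLib.HiGrowth
import Groth.Agent.NakaiLib.NefBig

/-!
# Uniform properties of numerically trivial twists
-/

set_option autoImplicit false
set_option backward.isDefEq.respectTransparency false
set_option linter.style.haveILetI false

universe u

open CategoryTheory CategoryTheory.Limits AlgebraicGeometry TopologicalSpace
open Groth.Agent.DCohLib Groth.Agent.AmpleLib Groth.Agent.PullbackMod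

noncomputable section

namespace Groth.Agent.NumBdd

variable (k : Type u) [Field k] {n : ℕ} {X : Scheme.{u}} (i : X ⟶ CohB1.ProjSpace n k)

/-- `(F ⊗ Q)(j)`. -/
abbrev T (F Q : X.Modules) (j : ℤ) : X.Modules := Pic13.twistOn k i (CohB1.tensorMod F Q) j

theorem isInvertible_xO (j : ℤ) : PicF.IsInvertible ((Scheme.Modules.pullback i).obj (Twist.twistProjSpace n k j)) :=
  isInvertible_pullback i (CMRegLib.isInvertible_O j)

/-- Twisting an exact sequence. -/
theorem shortExact_T {S : ShortComplex X.Modules} (hS : S.ShortExact) {Q : X.Modules} (hQ : PicF.IsInvertible Q) (j : ℤ) :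
    ((S.map (CurveLib.tensR Q)).map (CMRegLib.xTens k i j)).ShortExact :=
  CMRegLib.xShortExact k i (CurveLib.shortExact_tensR hS (CurveLib.freeAt_one_of_isInvertible hQ)) j

/-- Twisting an isomorphism. -/
def tCongr {F F' : X.Modules} (e : F ≅ F') (Q : X.Modules) (j : ℤ) : T k i F Q j ≅ T k i F' Q j :=
  tIso (tIso e (Iso.refl Q)) (Iso.refl _)

/-- Twisting in the second variable. -/
def qCongr (F : X.Modules) {Q Q' : X.Modules} (e : Q ≅ Q') (j : ℤ) : T k i F Q j ≅ T k i F Q' j :=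
  tIso (tIso (Iso.refl F) e) (Iso.refl _)

variable [X.Over (Spec (CommRingCat.of k))]

/-- The higher cohomology of numerically trivial twists vanishes uniformly. -/
def UV (F : X.Modules) : Prop :=
  ∃ j₀ : ℤ, ∀ Q : X.Modules, PicF.IsInvertible Q → Pic13.IsNumEquivZero k X Q → ∀ j, j₀ ≤ j → ∀ p, 0 < p →
    Subsingleton (Coh.HH X (T k i F Q j) p)

/-- Numerically trivial twists do not change the Euler characteristic. -/
def UE (F : X.Modules) : Prop :=
  ∀ Q : X.Modules, PicF.IsInvertible Q → Pic13.IsNumEquivZero k X Q → ∀ j,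
    Curv2.euler k X (T k i F Q j) = Curv2.euler k X (Pic13.twistOn k i F j)

/-- The sections of numerically trivial twists are uniformly bounded. -/
def UH (F : X.Modules) : Prop :=
  ∀ j : ℤ, ∃ C : ℕ, ∀ Q : X.Modules, PicF.IsInvertible Q → Pic13.IsNumEquivZero k X Q →
    VolLib.h k (T k i F Q j) ≤ C

variable [IsProper (X ↘ Spec (CommRingCat.of k))]

theorem isCoh_T {F Q : X.Modules} (hF : Coh.IsCoh F) (hQ : PicF.IsInvertible Q) (j : ℤ) : Coh.IsCoh (T k i F Q j) :=
  haveI := EulerIneqLib.isNoetherian_proper (X := X) k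
  CMRegLib.isCoh_tensor_inv (CMRegLib.isCoh_tensor_inv hF hQ) (isInvertible_xO k i j)

theorem isCoh_twistOn {F : X.Modules} (hF : Coh.IsCoh F) (j : ℤ) : Coh.IsCoh (Pic13.twistOn k i F j) :=
  haveI := EulerIneqLib.isNoetherian_proper (X := X) k
  CMRegLib.isCoh_tensor_inv hF (isInvertible_xO k i j)

variable {k i}

omit [IsProper (X ↘ Spec (CommRingCat.of k))] in
theorem UV.of_iso {F F' : X.Modules} (e : F ≅ F') (h : UV k i F) : UV k i F' := by
  obtain ⟨j₀, hj⟩ := h
  exact ⟨j₀, fun Q hQ hn j hle p hp => Nakai.subsingleton_HH_iso (tCongr k i e Q j) p (hj Q hQ hn j hle p hp)⟩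

theorem UE.of_iso {F F' : X.Modules} (e : F ≅ F') (h : UE k i F) : UE k i F' := fun Q hQ hn j =>
  ((CurveLib.euler_iso (K := k) (tCongr k i e Q j)).symm.trans (h Q hQ hn j)).trans
    (CurveLib.euler_iso (K := k) (tIso e (Iso.refl _)))

theorem UH.of_iso {F F' : X.Modules} (e : F ≅ F') (h : UH k i F) : UH k i F' := fun j => by
  obtain ⟨C, hC⟩ := h j
  exact ⟨C, fun Q hQ hn => (VolLib.h_congr k (tCongr k i e Q j)).ge.trans (hC Q hQ hn)⟩

omit [IsProper (X ↘ Spec (CommRingCat.of k))] in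
theorem isZero_T {F : X.Modules} (hF : IsZero F) (Q : X.Modules) (j : ℤ) : IsZero (T k i F Q j) :=
  Functor.map_isZero (CMRegLib.xTens k i j) (Functor.map_isZero (CurveLib.tensR Q) hF)

omit [IsProper (X ↘ Spec (CommRingCat.of k))] in
theorem h_isZero {F : X.Modules} (hF : IsZero F) : VolLib.h k F = 0 :=
  haveI := HiGrowth.subsingleton_HH_of_isZero hF 0
  Module.finrank_zero_of_subsingleton

omit [IsProper (X ↘ Spec (CommRingCat.of k))] in
theorem euler_isZero {F : X.Modules} (hF : IsZero F) : Curv2.euler k X F = 0 :=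
  finsum_eq_zero_of_forall_eq_zero fun p => by
    haveI := HiGrowth.subsingleton_HH_of_isZero hF p
    simp [Module.finrank_zero_of_subsingleton]

omit [IsProper (X ↘ Spec (CommRingCat.of k))] in
theorem UV.zero {F : X.Modules} (hF : IsZero F) : UV k i F :=
  ⟨0, fun Q _ _ j _ p _ => HiGrowth.subsingleton_HH_of_isZero (isZero_T hF Q j) p⟩

omit [IsProper (X ↘ Spec (CommRingCat.of k))] in
theorem UE.zero {F : X.Modules} (hF : IsZero F) : UE k i F := fun Q _ _ j => by
  rw [euler_isZero (isZero_T hF Q j),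
    euler_isZero (F := Pic13.twistOn k i F j) (Functor.map_isZero (CMRegLib.xTens k i j) hF)]

omit [IsProper (X ↘ Spec (CommRingCat.of k))] in
theorem UH.zero {F : X.Modules} (hF : IsZero F) : UH k i F := fun j =>
  ⟨0, fun Q _ _ => (h_isZero (isZero_T hF Q j)).le⟩

omit [IsProper (X ↘ Spec (CommRingCat.of k))] in
theorem UV.ext {S : ShortComplex X.Modules} (hS : S.ShortExact) (h1 : UV k i S.X₁) (h3 : UV k i S.X₃) :
    UV k i S.X₂ := by
  obtain ⟨a, ha⟩ := h1
  obtain ⟨b, hb⟩ := h3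
  refine ⟨max a b, fun Q hQ hn j hj p hp => ?_⟩
  haveI : Subsingleton (Coh.HH X ((S.map (CurveLib.tensR Q)).map (CMRegLib.xTens k i j)).X₁ p) :=
    ha Q hQ hn j ((le_max_left _ _).trans hj) p hp
  haveI : Subsingleton (Coh.HH X ((S.map (CurveLib.tensR Q)).map (CMRegLib.xTens k i j)).X₃ p) :=
    hb Q hQ hn j ((le_max_right _ _).trans hj) p hp
  exact CurveLib.subsingleton_mid (shortExact_T k i hS hQ j) p

omit i in
theorem h_le_add_of_eq {S : ShortComplex X.Modules} (hS : S.ShortExact) {A B C : X.Modules} (e₁ : S.X₁ = A)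
    (e₂ : S.X₂ = B) (e₃ : S.X₃ = C) (hA : Coh.IsCoh A) (hB : Coh.IsCoh B) (hC : Coh.IsCoh C) :
    VolLib.h k B ≤ VolLib.h k A + VolLib.h k C := by
  subst e₁ e₂ e₃
  exact Nakai.h_le_add k hS hA hB hC

omit i in
theorem h_mono_of_eq {A B A' B' : X.Modules} (f : A' ⟶ B') (hf : Mono f) (e₁ : A' = A) (e₂ : B' = B)
    (hB : Coh.IsCoh B) : VolLib.h k A ≤ VolLib.h k B := by
  subst e₁ e₂
  exact VanGrow.h_mono k f hB

theorem euler_T {S : ShortComplex X.Modules} (hS : S.ShortExact) (h1 : Coh.IsCoh S.X₁) (h2 : Coh.IsCoh S.X₂)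
    (h3 : Coh.IsCoh S.X₃) {Q : X.Modules} (hQ : PicF.IsInvertible Q) (j : ℤ) :
    Curv2.euler k X (T k i S.X₂ Q j) = Curv2.euler k X (T k i S.X₁ Q j) + Curv2.euler k X (T k i S.X₃ Q j) :=
  CurveLib.euler_shortExact (K := k) (shortExact_T k i hS hQ j) (isCoh_T k i h1 hQ j) (isCoh_T k i h2 hQ j)
    (isCoh_T k i h3 hQ j)

theorem UE.two_three {S : ShortComplex X.Modules} (hS : S.ShortExact) (h1 : Coh.IsCoh S.X₁) (h2 : Coh.IsCoh S.X₂)
    (h3 : Coh.IsCoh S.X₃) :
    (UE k i S.X₁ → UE k i S.X₂ → UE k i S.X₃) ∧ (UE k i S.X₁ → UE k i S.X₃ → UE k i S.X₂) ∧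
      (UE k i S.X₂ → UE k i S.X₃ → UE k i S.X₁) := by
  have ht : ∀ j, Curv2.euler k X (Pic13.twistOn k i S.X₂ j) =
      Curv2.euler k X (Pic13.twistOn k i S.X₁ j) + Curv2.euler k X (Pic13.twistOn k i S.X₃ j) := fun j =>
    CurveLib.euler_shortExact (K := k) (CMRegLib.xShortExact k i hS j) (isCoh_twistOn k i h1 j)
      (isCoh_twistOn k i h2 j) (isCoh_twistOn k i h3 j)
  refine ⟨fun a b Q hQ hn j => ?_, fun a b Q hQ hn j => ?_, fun a b Q hQ hn j => ?_⟩
  all_goals
    have := euler_T hS h1 h2 h3 (i := i) hQ j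
    have := ht j
    have := a Q hQ hn j
    have := b Q hQ hn j
    omega

theorem UH.ext {S : ShortComplex X.Modules} (hS : S.ShortExact) (h1 : Coh.IsCoh S.X₁) (h2 : Coh.IsCoh S.X₂)
    (h3 : Coh.IsCoh S.X₃) (a : UH k i S.X₁) (b : UH k i S.X₃) : UH k i S.X₂ := fun j => by
  obtain ⟨A, hA⟩ := a j
  obtain ⟨B, hB⟩ := b j
  refine ⟨A + B, fun Q hQ hn => le_trans ?_ (add_le_add (hA Q hQ hn) (hB Q hQ hn))⟩
  exact h_le_add_of_eq (k := k) (shortExact_T k i hS hQ j) (A := T k i S.X₁ Q j) (B := T k i S.X₂ Q j)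
    (C := T k i S.X₃ Q j) rfl rfl rfl (isCoh_T k i h1 hQ j) (isCoh_T k i h2 hQ j) (isCoh_T k i h3 hQ j)

theorem UH.of_mono {F G : X.Modules} (f : F ⟶ G) [Mono f] (hG : Coh.IsCoh G) (h : UH k i G) : UH k i F := fun j => by
  obtain ⟨C, hC⟩ := h j
  refine ⟨C, fun Q hQ hn => le_trans ?_ (hC Q hQ hn)⟩
  exact h_mono_of_eq (k := k) (A := T k i F Q j) (B := T k i G Q j)
    ((CMRegLib.xTens k i j).map ((CurveLib.tensR Q).map f))
    (shortExact_T k i (DevLib.cokerSeq_shortExact f) hQ j).mono_f rfl rfl (isCoh_T k i hG hQ j)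

omit i in
/-- Sections of twisted direct images. -/
theorem finrank_push_two {Z : Scheme.{u}} [Z.Over (Spec (CommRingCat.of k))] (ι : Z ⟶ X) [IsClosedImmersion ι]
    (hι : ι ≫ (X ↘ Spec (CommRingCat.of k)) = Z ↘ Spec (CommRingCat.of k)) {M : Z.Modules} (hM : Coh.IsCoh M)
    {Q G : X.Modules} (hQ : PicF.IsInvertible Q) (hG : PicF.IsInvertible G) {G' : Z.Modules}
    (e : (Scheme.Modules.pullback ι).obj G ≅ G') (p : ℕ) :
    Module.finrank k (Coh.HH X (CohB1.tensorMod (CohB1.tensorMod ((Scheme.Modules.pushforward ι).obj M) Q) G) p) =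
      Module.finrank k (Coh.HH Z (CohB1.tensorMod (CohB1.tensorMod M ((Scheme.Modules.pullback ι).obj Q)) G') p) := by
  haveI : IsProper (Z ↘ Spec (CommRingCat.of k)) := hι ▸ inferInstanceAs (IsProper (ι ≫ _))
  haveI := EulerIneqLib.isNoetherian_proper (X := X) k
  haveI : IsLocallyNoetherian Z := LocallyOfFiniteType.isLocallyNoetherian ι
  haveI : Coh.IsQCoh (tmod (tmod M ((Scheme.Modules.pullback ι).obj Q)) ((Scheme.Modules.pullback ι).obj G)) :=
    (CMRegLib.isCoh_tensor_inv (CMRegLib.isCoh_tensor_inv hM (isInvertible_pullback ι hQ))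
      (isInvertible_pullback ι hG)).1
  exact ((CMRegLib.hh_finrank_iso (k := k) (tIso (projIso ι M Q) (Iso.refl G) ≪≫ projIso ι _ G) p).trans
    (IntLib.finrank_push k ι hι _ p)).trans (CMRegLib.hh_finrank_iso (k := k) (tIso (Iso.refl _) e) p)

omit i in
/-- Sections of a twisted direct image. -/
theorem finrank_push_one {Z : Scheme.{u}} [Z.Over (Spec (CommRingCat.of k))] (ι : Z ⟶ X) [IsClosedImmersion ι]
    (hι : ι ≫ (X ↘ Spec (CommRingCat.of k)) = Z ↘ Spec (CommRingCat.of k)) {M : Z.Modules} (hM : Coh.IsCoh M)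
    {G : X.Modules} (hG : PicF.IsInvertible G) {G' : Z.Modules}
    (e : (Scheme.Modules.pullback ι).obj G ≅ G') (p : ℕ) :
    Module.finrank k (Coh.HH X (CohB1.tensorMod ((Scheme.Modules.pushforward ι).obj M) G) p) =
      Module.finrank k (Coh.HH Z (CohB1.tensorMod M G') p) := by
  haveI : IsProper (Z ↘ Spec (CommRingCat.of k)) := hι ▸ inferInstanceAs (IsProper (ι ≫ _))
  haveI := EulerIneqLib.isNoetherian_proper (X := X) k
  haveI : IsLocallyNoetherian Z := LocallyOfFiniteType.isLocallyNoetherian ι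
  haveI : Coh.IsQCoh (tmod M ((Scheme.Modules.pullback ι).obj G)) :=
    (CMRegLib.isCoh_tensor_inv hM (isInvertible_pullback ι hG)).1
  exact ((CMRegLib.hh_finrank_iso (k := k) (projIso ι M G) p).trans
    (IntLib.finrank_push k ι hι _ p)).trans (CMRegLib.hh_finrank_iso (k := k) (tIso (Iso.refl _) e) p)

omit i [IsProper (X ↘ Spec (CommRingCat.of k))] in
theorem euler_congr_finrank {Z : Scheme.{u}} [Z.Over (Spec (CommRingCat.of k))] {A : X.Modules} {B : Z.Modules}
    (h : ∀ p, Module.finrank k (Coh.HH X A p) = Module.finrank k (Coh.HH Z B p)) :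
    Curv2.euler k X A = Curv2.euler k Z B :=
  finsum_congr fun p => by rw [h p]

/-- The twist on a closed subscheme. -/
def subTwist {Z : Scheme.{u}} (ι : Z ⟶ X) (j : ℤ) :
    (Scheme.Modules.pullback ι).obj ((Scheme.Modules.pullback i).obj (Twist.twistProjSpace n k j)) ≅
      (Scheme.Modules.pullback (ι ≫ i)).obj (Twist.twistProjSpace n k j) :=
  (Scheme.Modules.pullbackComp ι i).app (Twist.twistProjSpace n k j)

section Push

variable {Z : Scheme.{u}} [Z.Over (Spec (CommRingCat.of k))] (ι : Z ⟶ X) [IsClosedImmersion ι]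
  (hι : ι ≫ (X ↘ Spec (CommRingCat.of k)) = Z ↘ Spec (CommRingCat.of k)) {M : Z.Modules} (hM : Coh.IsCoh M)

include hι hM

theorem key_push {Q : X.Modules} (hQ : PicF.IsInvertible Q) (j : ℤ) (p : ℕ) :
    Module.finrank k (Coh.HH X (T k i ((Scheme.Modules.pushforward ι).obj M) Q j) p) =
      Module.finrank k (Coh.HH Z (T k (ι ≫ i) M ((Scheme.Modules.pullback ι).obj Q) j) p) :=
  finrank_push_two ι hι hM hQ (isInvertible_xO k i j) (subTwist ι j) p

theorem UV.push (h : UV k (ι ≫ i) M) : UV k i ((Scheme.Modules.pushforward ι).obj M) := by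
  obtain ⟨j₀, hj⟩ := h
  refine ⟨j₀, fun Q hQ hn j hle p hp => ?_⟩
  haveI := EulerIneqLib.isNoetherian_proper (X := X) k
  haveI := EulerIneqLib.finite_HH (k := k) (isCoh_T k i (DevLib.isCoh_pushforward_closed ι hM) hQ j) p
  refine Module.finrank_zero_iff.1 ((key_push ι hι hM hQ j p).trans ?_)
  haveI := hj _ (isInvertible_pullback ι hQ) (numTriv_pullback k hn ι hι hQ) j hle p hp
  exact Module.finrank_zero_of_subsingleton

theorem UE.push (h : UE k (ι ≫ i) M) : UE k i ((Scheme.Modules.pushforward ι).obj M) := fun Q hQ hn j =>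
  ((euler_congr_finrank (k := k) fun p => key_push ι hι hM hQ j p).trans
    (h _ (isInvertible_pullback ι hQ) (numTriv_pullback k hn ι hι hQ) j)).trans
    (euler_congr_finrank (k := k) (A := Pic13.twistOn k i ((Scheme.Modules.pushforward ι).obj M) j)
      (B := Pic13.twistOn k (ι ≫ i) M j)
      fun p => finrank_push_one ι hι hM (isInvertible_xO k i j) (subTwist ι j) p).symm

theorem UH.push (h : UH k (ι ≫ i) M) : UH k i ((Scheme.Modules.pushforward ι).obj M) := fun j => by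
  obtain ⟨C, hC⟩ := h j
  exact ⟨C, fun Q hQ hn => (key_push ι hι hM hQ j 0).trans_le
    (hC _ (isInvertible_pullback ι hQ) (numTriv_pullback k hn ι hι hQ))⟩

end Push

end Groth.Agent.NumBdd
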