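import Groth.Agent.ZeroSchemeLib.Basic
import Groth.Agent.IdealStalkLib.Comap
import Groth.Agent.RelVALib.EmbGen
import Groth.Agent.CubeLib.Sec

/-!
# The family of common zero schemes of sections in a fixed span
-/

set_option autoImplicit false
set_option backward.isDefEq.respectTransparency false
set_option backward.isDefEq.respectTransparency.types false
set_option linter.style.haveILetI false

universe u

open CategoryTheory CategoryTheory.Limits AlgebraicGeometry TopologicalSpace Opposite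
open Groth.Agent.PullbackMod Groth.Agent.DCohLib Groth.Agent.ParaFLib Groth.Agent.AmpleLib

noncomputable section

namespace Groth.Agent.ZeroFam

variable {X : Scheme.{u}}

theorem exists_affine_gen {L : X.Modules} (hL : PicF.IsInvertible L) {x : X} {V : X.Opens} (hx : x ∈ V) :
    ∃ (W : X.affineOpens) (e : Γ(L, W.1)), x ∈ W.1 ∧ W.1 ≤ V ∧ Gen W.1 e := by
  obtain ⟨W₀, e, hxW, he⟩ := exists_gen_nhd hL x
  obtain ⟨W, hW, hxW', hle⟩ := exists_isAffineOpen_mem_and_subset (U := W₀ ⊓ V) ⟨hxW, hx⟩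
  exact ⟨⟨W, hW⟩, _, hxW', hle.trans inf_le_right, he.res (hle.trans inf_le_left)⟩

theorem zeroScheme_gen {L : X.Modules} (hL : PicF.IsInvertible L) (s : Coh.structureModule X ⟶ L)
    (W : X.affineOpens) {e : Γ(L, W.1)} (he : Gen W.1 e) {c : Γ(X, W.1)} (hc : c • e = resT (sec s) W.1) :
    (PicF2.zeroScheme L s).ideal W = Ideal.span {c} := by
  rw [ZeroSchemeLib.zeroScheme_ideal hL, ZeroSchemeLib.colonIdeal_of_gen s he hc]

/-- Isomorphic sections have the same zero scheme. -/
theorem zeroScheme_iso {L L' : X.Modules} (hL : PicF.IsInvertible L) (θ : L ≅ L')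
    (s : Coh.structureModule X ⟶ L) :
    PicF2.zeroScheme L' (secHom L' (θ.hom.app ⊤ (sec s))) = PicF2.zeroScheme L s := by
  have hL' := isInvertible_of_iso θ hL
  refine Scheme.IdealSheafData.ext (funext fun U => ?_)
  rw [ZeroSchemeLib.zeroScheme_ideal hL', ZeroSchemeLib.zeroScheme_ideal hL]
  have hres : resT (sec (secHom L' (θ.hom.app ⊤ (sec s)))) U.1 = θ.hom.app U.1 (resT (sec s) U.1) := by
    rw [sec_secHom, resT, resT]
    exact (congr($(θ.hom.mapPresheaf.naturality (homOfLE (le_top : U.1 ≤ ⊤)).op) (sec s))).symm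
  have hb : Function.Bijective (θ.hom.app U.1) := ConcreteCategory.bijective_of_isIso (θ.hom.app U.1)
  ext a
  show (∀ m, ∃ b, _) ↔ (∀ m, ∃ b, _)
  rw [hres]
  constructor
  · intro h m
    obtain ⟨b, hbm⟩ := h (θ.hom.app U.1 m)
    rw [← Scheme.Modules.Hom.app_smul, ← Scheme.Modules.Hom.app_smul] at hbm
    exact ⟨b, hb.1 hbm⟩
  · intro h m
    obtain ⟨m, rfl⟩ := hb.2 m
    obtain ⟨b, hbm⟩ := h m
    exact ⟨b, by rw [← Scheme.Modules.Hom.app_smul, ← Scheme.Modules.Hom.app_smul, hbm]⟩

/-- Multiplying by sections which generate does not change the zero scheme. -/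
theorem iSup_zeroScheme_tensorS {A N : X.Modules} (hA : PicF.IsInvertible A) (hN : PicF.IsInvertible N)
    (s : Coh.structureModule X ⟶ A) {ι : Type} [Finite ι] (σ : ι → (Coh.structureModule X ⟶ N))
    (hσ : ∀ x, ∃ v, x ∈ CohB1.genLocus N (σ v)) :
    ⨆ v, PicF2.zeroScheme _ (tensorS s (σ v)) = PicF2.zeroScheme A s := by
  have hx : ∀ x : X, ∃ (W : X.affineOpens) (e : Γ(A, W.1)) (e' : Γ(N, W.1)),
      x ∈ W.1 ∧ Gen W.1 e ∧ Gen W.1 e' := fun x => by
    obtain ⟨W₀, e₀, hx₀, he₀⟩ := exists_gen_nhd hA x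
    obtain ⟨W, e', hxW, hle, he'⟩ := exists_affine_gen hN hx₀
    exact ⟨W, _, e', hxW, he₀.res hle, he'⟩
  choose W e e' hxW he he' using hx
  refine Scheme.IdealSheafData.ext_of_iSup_eq_top W
    (eq_top_iff.2 fun x _ => Opens.mem_iSup.2 ⟨x, hxW x⟩) fun x => ?_
  obtain ⟨c, hc⟩ := (he x (W x).1 le_rfl).2 (resT (sec s) (W x).1)
  simp only [ParaFLib.res_self] at hc
  choose d hd using fun v => (he' x (W x).1 le_rfl).2 (resT (sec (σ v)) (W x).1)
  simp only [ParaFLib.res_self] at hd
  have hmul : ∀ v, (c * d v) • pairS A N (e x) (e' x) = resT (sec (tensorS s (σ v))) (W x).1 := fun v => by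
    rw [show sec (tensorS s (σ v)) = pairS A N (sec s) (sec (σ v)) from sec_secHom (L := tmod A N) _]
    refine Eq.trans ?_ (res_pairS le_top (sec s) (sec (σ v))).symm
    change _ = pairS A N (resT (sec s) _) (resT (sec (σ v)) _)
    rw [← hc, ← hd, pairS_smul_left, pairS_smul_right, smul_smul]
  rw [Scheme.IdealSheafData.ideal_iSup, iSup_apply, zeroScheme_gen hA s (W x) (he x) hc,
    iSup_congr fun v => zeroScheme_gen (isInvertible_tensor hA hN) _ (W x) (gen_pairS (he x) (he' x)) (hmul v)]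
  have h1 : (⨆ v, Ideal.span ({d v} : Set Γ(X, (W x).1))) = ⊤ := by
    rw [← Ideal.span_iUnion, ← (W x).2.iSup_basicOpen_eq_self_iff]
    refine le_antisymm (iSup_le fun g => X.basicOpen_le _) fun y hy => ?_
    obtain ⟨v, hv⟩ := hσ y
    exact Opens.mem_iSup.2 ⟨⟨d v, Set.mem_iUnion.2 ⟨v, rfl⟩⟩,
      (genLocus_inf_eq_basicOpen (σ v) (he' x) (hd v)).le ⟨hv, hy⟩⟩
  calc (⨆ v, Ideal.span {c * d v}) = ⨆ v, Ideal.span {c} * Ideal.span {d v} :=
        iSup_congr fun v => (Ideal.span_singleton_mul_span_singleton c (d v)).symm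
    _ = Ideal.span {c} * ⨆ v, Ideal.span {d v} := (Submodule.mul_iSup _ _).symm
    _ = Ideal.span {c} := by rw [h1, Ideal.mul_top]

section Family

variable (k : Type u) [Field k] [X.Over (Spec (CommRingCat.of k))] {J L : Type} [Fintype J] [Fintype L]
  {B : X.Modules} (e : L → (Coh.structureModule X ⟶ B))

/-- The parameters. -/
abbrev Param (J L : Type) : Scheme.{u} := Spec (CommRingCat.of (MvPolynomial (J × L) k))

/-- The structure morphism of the parameters. -/
abbrev paramStr : Param k J L ⟶ Spec (CommRingCat.of k) :=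
  Spec.map (CommRingCat.ofHom (algebraMap k (MvPolynomial (J × L) k)))

variable (X J L)

/-- The total space. -/
abbrev Tot : Scheme.{u} := pullback (X ↘ Spec (CommRingCat.of k)) (paramStr k (J := J) (L := L))

/-- The projection to the scheme. -/
abbrev pr : Tot X k J L ⟶ X := pullback.fst _ _

/-- The projection to the parameters. -/
abbrev prT : Tot X k J L ⟶ Param k J L := pullback.snd _ _

/-- The coordinate functions on the total space. -/
def coord (p : J × L) : Γ(Tot X k J L, ⊤) :=
  Coh.toGlobal (prT X k J L) (MvPolynomial.X p)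

variable {X J L}

/-- The universal sections. -/
def univSec (j : J) : Coh.structureModule (Tot X k J L) ⟶ (Scheme.Modules.pullback (pr X k J L)).obj B :=
  secHom _ (∑ l, coord X k J L (j, l) • sec (RelVALib.pullSec (pr X k J L) (e l)))

/-- The universal zero scheme. -/
def univIdeal : (Tot X k J L).IdealSheafData :=
  ⨆ j, PicF2.zeroScheme _ (univSec k e j)

/-- A rational parameter. -/
def point (c : J × L → k) : Spec (CommRingCat.of k) ⟶ Param k J L :=
  Spec.map (CommRingCat.ofHom (MvPolynomial.aeval c : MvPolynomial (J × L) k →ₐ[k] k).toRingHom)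

theorem point_str (c : J × L → k) : point k c ≫ paramStr k = 𝟙 _ := by
  rw [point, paramStr, ← Spec.map_comp, ← CommRingCat.ofHom_comp, ← Spec.map_id]
  congr 2
  exact RingHom.ext fun a => (MvPolynomial.aeval c : MvPolynomial (J × L) k →ₐ[k] k).commutes a

/-- The graph of a rational parameter. -/
def graph (c : J × L → k) : X ⟶ Tot X k J L :=
  pullback.lift (𝟙 X) ((X ↘ Spec (CommRingCat.of k)) ≫ point k c)
    (by rw [Category.id_comp, Category.assoc, point_str, Category.comp_id])

theorem isPullback_graph (c : J × L → k) :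
    IsPullback (graph k c) (X ↘ Spec (CommRingCat.of k)) (prT X k J L) (point k c) := by
  refine IsPullback.of_right ?_ (pullback.lift_snd _ _ _) (IsPullback.of_hasPullback _ _).flip.flip
  rw [point_str, show graph k c ≫ pullback.fst _ _ = 𝟙 X from pullback.lift_fst _ _ _]
  exact IsPullback.of_horiz_isIso ⟨by simp⟩

theorem graph_appTop (c : J × L → k) (p : J × L) :
    (graph k c).appTop (coord X k J L p) = Coh.toGlobal (X ↘ Spec (CommRingCat.of k)) (c p) := by
  show ((prT X k J L).appTop ≫ (graph k c).appTop) ((Scheme.ΓSpecIso _).inv (MvPolynomial.X p)) = _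
  rw [← Scheme.Hom.comp_appTop, show graph k c ≫ prT X k J L = _ from pullback.lift_snd _ _ _,
    Scheme.Hom.comp_appTop]
  show (X ↘ Spec (CommRingCat.of k)).appTop ((point k c).appTop ((Scheme.ΓSpecIso _).inv (MvPolynomial.X p))) = _
  have h : (point k c).appTop ((Scheme.ΓSpecIso _).inv (MvPolynomial.X p)) =
      (Scheme.ΓSpecIso _).inv ((MvPolynomial.aeval c : MvPolynomial (J × L) k →ₐ[k] k).toRingHom (MvPolynomial.X p)) :=
    ConcreteCategory.congr_hom (Scheme.ΓSpecIso_inv_naturality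
      (CommRingCat.ofHom (MvPolynomial.aeval c : MvPolynomial (J × L) k →ₐ[k] k).toRingHom)).symm _
  rw [h]
  simp [Coh.toGlobal]
  rfl

/-- The universal zero scheme specializes to the common zero scheme. -/
theorem comap_univIdeal (hB : PicF.IsInvertible B) (c : J × L → k) (v : J → (Coh.structureModule X ⟶ B))
    (hv : ∀ j, sec (v j) =
      ∑ l, (show Γ(X, ⊤) from Coh.toGlobal (X ↘ Spec (CommRingCat.of k)) (c (j, l))) • sec (e l)) :
    (univIdeal k e).comap (graph k c) = ⨆ j, PicF2.zeroScheme B (v j) := by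
  rw [univIdeal, (Scheme.IdealSheafData.map_gc (graph k c)).l_iSup]
  refine iSup_congr fun j => ?_
  have hx : ∀ x : X, ∃ (W : X.affineOpens) (b : Γ(B, W.1)), x ∈ W.1 ∧ Gen W.1 b := fun x => by
    obtain ⟨W, b, hxW, -, hb⟩ := exists_affine_gen hB (Opens.mem_top x)
    exact ⟨W, b, hxW, hb⟩
  choose W b hxW hb using hx
  refine Scheme.IdealSheafData.ext_of_iSup_eq_top W
    (eq_top_iff.2 fun x _ => Opens.mem_iSup.2 ⟨x, hxW x⟩) fun x => ?_
  haveI : IsAffineHom (pr X k J L) := MorphismProperty.pullback_fst _ _ inferInstance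
  set π := pr X k J L
  have hV : IsAffineOpen (π ⁻¹ᵁ (W x).1) := (W x).2.preimage π
  choose d hd using fun l => (hb x (W x).1 le_rfl).2 (resT (sec (e l)) (W x).1)
  simp only [ParaFLib.res_self] at hd
  have hg : Gen (π ⁻¹ᵁ (W x).1) (pullMap π B le_rfl (b x)) := CubeLib.gen_pullMap π hB (hb x) le_rfl
  have hcd : (∑ l, (Tot X k J L).presheaf.map (homOfLE le_top).op (coord X k J L (j, l)) *
        π.appLE (W x).1 (π ⁻¹ᵁ (W x).1) le_rfl (d l)) • pullMap π B le_rfl (b x) =
      resT (sec (univSec k e j)) (π ⁻¹ᵁ (W x).1) := by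
    rw [Finset.sum_smul, univSec, sec_secHom, resT, map_sum]
    refine Finset.sum_congr rfl fun l _ => ?_
    rw [Scheme.Modules.map_smul, mul_smul, ← pullMap_smul, show d l • b x = _ from hd l]
    congr 1
    rw [RelVALib.sec_pullSec]
    exact (pullMap_res π B _ le_top le_top le_rfl (sec (e l))).symm
  have hW' : (W x).1 ≤ graph k c ⁻¹ᵁ (π ⁻¹ᵁ (W x).1) := by
    rw [← Scheme.Hom.comp_preimage, show graph k c ≫ π = 𝟙 X from pullback.lift_fst _ _ _]
    exact le_rfl
  rw [IdealStalkLib.comap_ideal _ (graph k c) hV (W x).2 hW',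
    zeroScheme_gen (isInvertible_pullback π hB) _ ⟨_, hV⟩ hg hcd, Ideal.map_span, Set.image_singleton]
  refine (zeroScheme_gen hB (v j) (W x) (hb x) ?_).symm
  rw [map_sum, hv j, resT, map_sum, Finset.sum_smul]
  refine Finset.sum_congr rfl fun l _ => ?_
  rw [Scheme.Modules.map_smul, map_mul, mul_smul]
  congr 1
  · rw [← graph_appTop k c (j, l)]
    show ((Tot X k J L).presheaf.map (homOfLE le_top).op ≫ (graph k c).appLE _ _ hW') _ = _
    rw [Scheme.Hom.map_appLE]
    show _ = ((graph k c).appTop ≫ X.presheaf.map _) _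
    rw [Scheme.Hom.appTop, Scheme.Hom.app_eq_appLE, Scheme.Hom.appLE_map]
  · show ((π.appLE (W x).1 _ le_rfl ≫ (graph k c).appLE _ _ hW') (d l)) • b x = _
    rw [Scheme.Hom.appLE_comp_appLE]
    simp only [show graph k c ≫ π = 𝟙 X from pullback.lift_fst _ _ _]
    rw [show (𝟙 X : X ⟶ X).appLE (W x).1 (W x).1 le_rfl = 𝟙 _ from by
      simp [Scheme.Hom.appLE]
      exact X.presheaf.map_id _]
    exact hd l

end Family

end Groth.Agent.ZeroFam
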