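import Groth.Agent.NumBddLib.Integral
import Groth.Agent.S10829

/-!
# Uniformity for numerically trivial twists on projective schemes
-/

set_option autoImplicit false
set_option backward.isDefEq.respectTransparency false
set_option linter.style.haveILetI false

universe u

open CategoryTheory CategoryTheory.Limits AlgebraicGeometry TopologicalSpace
open Groth.Agent.DCohLib Groth.Agent.AmpleLib Groth.Agent.PullbackMod Groth.Agent.DevLib Groth.Agent.QCohLib

noncomputable section

namespace Groth.Agent.NumBdd

variable (k : Type u) [Field k] {n : ℕ}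

/-- The three properties together. -/
def AllU {X : Scheme.{u}} [X.Over (Spec (CommRingCat.of k))] (i : X ⟶ CohB1.ProjSpace n k) (F : X.Modules) : Prop :=
  UV k i F ∧ UE k i F ∧ UH k i F

theorem allU_of_dim : ∀ (d : ℕ) (X : Scheme.{u}) [X.Over (Spec (CommRingCat.of k))]
    [IsProper (X ↘ Spec (CommRingCat.of k))] (i : X ⟶ CohB1.ProjSpace n k) [IsClosedImmersion i] (F : X.Modules),
    Coh.IsCoh F → topologicalKrullDim (CohB1.support F) < (d : WithBot ℕ∞) → AllU k i F := by
  intro d
  induction d with
  | zero =>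
    intro X _ _ i _ F hF hd
    have hz : IsZero F := by
      haveI := hF.1
      refine isZero_of_support_empty ?_
      by_contra hne
      obtain ⟨x, hx⟩ := Set.nonempty_iff_ne_empty.2 hne
      obtain ⟨e, -, he⟩ := FlatDim.topologicalKrullDim_closure k (X ↘ Spec (CommRingCat.of k)) x
      have := lt_of_le_of_lt (Topology.IsEmbedding.inclusion ((DevLib.isClosed_support hF).closure_subset_iff.2
        (Set.singleton_subset_iff.2 hx))).isInducing.topologicalKrullDim_le hd
      rw [he] at this
      exact absurd this (not_lt.2 (by exact_mod_cast Nat.zero_le e))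
    exact ⟨UV.zero hz, UE.zero hz, UH.zero hz⟩
  | succ d ih =>
    intro X _ _ i _ F hF hd
    haveI := EulerIneqLib.isNoetherian_proper (X := X) k
    have comp : ∀ ξ : X, closure {ξ} ⊆ CohB1.support F →
        (∀ (H : X.Modules) (q : H ⟶ IntLib.compMod ξ), Mono q → Coh.IsCoh H → UV k i H ∧ UH k i H) ∧
          UE k i (IntLib.compMod ξ) := fun ξ hsub => by
      let J := Scheme.IdealSheafData.vanishingIdeal (⟨closure {ξ}, isClosed_closure⟩ : Closeds X)
      letI : J.subscheme.Over (Spec (CommRingCat.of k)) := ⟨J.subschemeι ≫ (X ↘ Spec (CommRingCat.of k))⟩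
      haveI : IsProper (J.subscheme ↘ Spec (CommRingCat.of k)) :=
        (inferInstanceAs (IsProper (J.subschemeι ≫ (X ↘ Spec (CommRingCat.of k)))))
      haveI := EulerIneqLib.isNoetherian_proper (X := J.subscheme) k
      haveI := CurveLib.isIntegral_vanishingIdeal (X := X) (C := closure {ξ}) isClosed_closure
        isIrreducible_singleton.closure
      obtain ⟨e, -, he⟩ := FlatDim.topologicalKrullDim_closure k (X ↘ Spec (CommRingCat.of k)) ξ
      have hed : e ≤ d := by
        have := HilbLib.isClosed_closure_le hsub hd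
        rw [he] at this
        exact Nat.lt_succ_iff.1 (by exact_mod_cast this)
      obtain ⟨hV, hE, hH⟩ := core k (J.subschemeι ≫ i) ((Nakai.dim_vanishing ξ).trans he) fun C hC hC' =>
        ih J.subscheme (J.subschemeι ≫ i) C hC (hC'.trans_le (by exact_mod_cast hed))
      have hO := DevLib.isCoh_structureModule J.subscheme
      have hUH : UH k i (IntLib.compMod ξ) := UH.push J.subschemeι rfl hO hH
      refine ⟨fun H q hq hH' => ⟨?_, ?_⟩, UE.push J.subschemeι rfl hO hE⟩
      · obtain ⟨I, ι, hι, hI, ⟨eI⟩⟩ := exists_ideal_of_mono J.subschemeι q hH'.1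
        haveI := hι
        have hIc : Coh.IsCoh I := isCoh_of_mono ι hO hI
        exact (UV.push J.subschemeι rfl hIc (UV.all k (J.subschemeι ≫ i) hV hIc)).of_iso eI
      · haveI := hq
        exact UH.of_mono q (IntLib.isPiece_compMod ξ).coh hUH
    refine ⟨?_, ?_, ?_⟩
    · refine devissage (CohB1.support F) (fun M => UV k i M) (fun A B ⟨e⟩ h => h.of_iso e) (fun M hM => UV.zero hM)
        (fun S hS _ _ _ _ a b => UV.ext hS a b) (fun ξ _ hξ Q hQ hsm => ?_) F hF subset_rfl
      exact piece_of_ext (CohB1.support F) hξ _ (fun S hS _ _ _ _ a b => UV.ext hS a b)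
        (IntLib.isPiece_compMod ξ) (fun H q hq hH => ((comp ξ hξ).1 H q hq hH).1) hQ hsm
    · refine devissage (CohB1.support F) (fun M => UE k i M) (fun A B ⟨e⟩ h => h.of_iso e) (fun M hM => UE.zero hM)
        (fun S hS h1 h2 h3 _ a b => (UE.two_three hS h1 h2 h3).2.1 a b) (fun ξ _ hξ Q hQ hsm => ?_) F hF subset_rfl
      exact piece_of_two_three (CohB1.support F) hξ _ (fun A B ⟨e⟩ h => h.of_iso e)
        (fun S hS h1 h2 h3 _ => UE.two_three hS h1 h2 h3) (IntLib.isPiece_compMod ξ).coh
        (IntLib.isPiece_compMod ξ).supp (IntLib.isPiece_compMod ξ).simple (comp ξ hξ).2 hQ hsm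
    · refine devissage (CohB1.support F) (fun M => UH k i M) (fun A B ⟨e⟩ h => h.of_iso e) (fun M hM => UH.zero hM)
        (fun S hS h1 h2 h3 _ a b => UH.ext hS h1 h2 h3 a b) (fun ξ _ hξ Q hQ hsm => ?_) F hF subset_rfl
      exact piece_of_ext (CohB1.support F) hξ _ (fun S hS h1 h2 h3 _ a b => UH.ext hS h1 h2 h3 a b)
        (IntLib.isPiece_compMod ξ) (fun H q hq hH => ((comp ξ hξ).1 H q hq hH).2) hQ hsm

/-- Uniform vanishing and constancy of Euler characteristics on a projective scheme. -/
theorem allU {X : Scheme.{u}} [X.Over (Spec (CommRingCat.of k))] [IsProper (X ↘ Spec (CommRingCat.of k))]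
    (i : X ⟶ CohB1.ProjSpace n k) [IsClosedImmersion i] {F : X.Modules} (hF : Coh.IsCoh F) : AllU k i F := by
  refine allU_of_dim k (n + 1) X i F hF (lt_of_le_of_lt
    (Topology.IsInducing.subtypeVal.topologicalKrullDim_le.trans ?_) (show (n : WithBot ℕ∞) < _ by
      exact_mod_cast Nat.lt_succ_self n))
  exact (i.isClosedEmbedding.isInducing.topologicalKrullDim_le).trans (le_of_eq (S10829.result k n))

end Groth.Agent.NumBdd
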