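import Groth.Agent.NumBddLib.Ample
import Groth.Agent.NakaiLib.ProperKleiman
import Groth.Agent.NakaiLib.Apps
import Groth.Agent.AmpleEmb.Inverse
import Groth.Agent.H1ZeroLib.Main

/-!
# Numerically trivial modules preserve Euler characteristics on proper schemes
-/

set_option autoImplicit false
set_option backward.isDefEq.respectTransparency false
set_option linter.style.haveILetI false

universe u

open CategoryTheory CategoryTheory.Limits AlgebraicGeometry TopologicalSpace
open Groth.Agent.PullbackMod Groth.Agent.DCohLib Groth.Agent.DevLib Groth.Agent.QCohLib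
open Groth.Agent.IntLib (PicRing pairing inv' compMod)
open Groth.Agent.Nakai (cl cl_mem Aug NefP pullRing)

noncomputable section

namespace Groth.Agent.NumBdd

variable (k : Type u) [Field k] {X : Scheme.{u}} [X.Over (Spec (CommRingCat.of k))]
  [IsProper (X ↘ Spec (CommRingCat.of k))]

theorem pairing_compMod_eq_zero {L : X.Modules} (hL : PicF.IsInvertible L) (hn : Pic13.IsNumEquivZero k X L) (ξ : X)
    (hξ : topologicalKrullDim (closure {ξ} : Set X) = ((1 : ℕ) : WithBot ℕ∞)) :
    pairing k (compMod ξ) (cl hL) = 0 := by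
  haveI := EulerIneqLib.isNoetherian_proper (X := X) k
  let J := Scheme.IdealSheafData.vanishingIdeal (⟨closure {ξ}, isClosed_closure⟩ : Closeds X)
  haveI := CurveLib.isIntegral_vanishingIdeal (X := X) (C := closure {ξ}) isClosed_closure isIrreducible_singleton.closure
  have hd : topologicalKrullDim J.subscheme = ((1 : ℕ) : WithBot ℕ∞) := (Nakai.dim_vanishing ξ).trans hξ
  have h := hn J.subscheme J.subschemeι inferInstance (hd.trans Nat.cast_one)
  rwa [Nakai.curveDeg_eq k hL J.subschemeι hd] at h

theorem nefP_of_numTriv {L : X.Modules} (hL : PicF.IsInvertible L) (hn : Pic13.IsNumEquivZero k X L) : NefP k hL :=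
  fun ξ hξ => (pairing_compMod_eq_zero k hL hn ξ hξ).ge

theorem numTriv_of_nefP_pair {L M : X.Modules} {hL : PicF.IsInvertible L} {hM : PicF.IsInvertible M}
    (e : CohB1.tensorMod L M ≅ Coh.structureModule X) (h₁ : NefP k hL) (h₂ : NefP k hM) :
    Pic13.IsNumEquivZero k X L := fun Y i _ hY hd => by
  haveI := EulerIneqLib.isNoetherian_proper (X := X) k
  haveI : IsLocallyNoetherian Y := LocallyOfFiniteType.isLocallyNoetherian i
  have hd' : topologicalKrullDim Y = ((1 : ℕ) : WithBot ℕ∞) := hd.trans Nat.cast_one.symm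
  rw [Nakai.curveDeg_eq k hL i hd']
  have hF := DevLib.isCoh_pushforward_closed i (DevLib.isCoh_structureModule Y)
  have hs := dim_supp_push i hd'
  have h0 : cl hL + cl hM + cl hL * cl hM = 0 := by
    rw [← Nakai.cl_tensor hL hM, Nakai.cl_congr (AmpleLib.isInvertible_tensor hL hM)
      ParaFLib.isInvertible_structureModule e, Nakai.cl,
      show inv' (ParaFLib.isInvertible_structureModule (X := X)) = 1 from Subtype.ext IntLib.mk_structureModule,
      map_one, sub_self]
  have h1 := congrArg (pairing k ((Scheme.Modules.pushforward i).obj (Coh.structureModule Y))) h0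
  rw [map_add, map_add, map_zero, Nakai.pairing_mem_eq_zero k (n := 2) (z := cl hL * cl hM)
    (by rw [pow_two]; exact Ideal.mul_mem_mul (cl_mem _) (cl_mem _)) hF hs, add_zero] at h1
  exact le_antisymm (by linarith [h₂.nonneg k hF hs]) (h₁.nonneg k hF hs)

/-- Numerical triviality is inherited along proper morphisms from projective schemes. -/
theorem numTriv_pullback_proper {X' : Scheme.{u}} [X'.Over (Spec (CommRingCat.of k))]
    [IsProper (X' ↘ Spec (CommRingCat.of k))] (ρ : X' ⟶ X) [IsProper ρ]
    (hρ : ρ ≫ (X ↘ Spec (CommRingCat.of k)) = X' ↘ Spec (CommRingCat.of k)) {A : X'.Modules} (hA : CohB1.IsAmple A)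
    {L : X.Modules} (hL : PicF.IsInvertible L) (hn : Pic13.IsNumEquivZero k X L) :
    Pic13.IsNumEquivZero k X' ((Scheme.Modules.pullback ρ).obj L) := by
  obtain ⟨M, hM, ⟨e⟩⟩ := AmpleEmb.exists_isInverseOf hL
  exact numTriv_of_nefP_pair k ((AmpleLib.pullTensor ρ L M).symm ≪≫ (Scheme.Modules.pullback ρ).mapIso e ≪≫
      AmpleLib.pullO ρ)
    ((nefP_of_numTriv k hL hn).pullback ρ k hρ hA)
    ((nefP_of_numTriv k hM (numTriv_inverse k hL hM e hn)).pullback ρ k hρ hA)

/-- A module supported on a closure whose pairing vanishes, nonzero at the point. -/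
theorem exists_pairing_zero {L : X.Modules} (hL : PicF.IsInvertible L) (hn : Pic13.IsNumEquivZero k X L) (ξ : X) :
    ∃ G : X.Modules, Coh.IsCoh G ∧ ξ ∈ CohB1.support G ∧ CohB1.support G ⊆ closure {ξ} ∧
      pairing k G (cl hL) = 0 := by
  haveI := EulerIneqLib.isNoetherian_proper (X := X) k
  let J := Scheme.IdealSheafData.vanishingIdeal (⟨closure {ξ}, isClosed_closure⟩ : Closeds X)
  letI : J.subscheme.Over (Spec (CommRingCat.of k)) := ⟨J.subschemeι ≫ (X ↘ Spec (CommRingCat.of k))⟩
  haveI : IsProper (J.subscheme ↘ Spec (CommRingCat.of k)) :=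
    (inferInstanceAs (IsProper (J.subschemeι ≫ (X ↘ Spec (CommRingCat.of k)))))
  haveI := CurveLib.isIntegral_vanishingIdeal (X := X) (C := closure {ξ}) isClosed_closure isIrreducible_singleton.closure
  haveI := EulerIneqLib.isNoetherian_proper (X := J.subscheme) k
  obtain ⟨n, X', π, j, hj, hjf, hπp, hπs, U, hU, hiso⟩ :=
    Groth.Agent.S0025.result (J.subscheme ↘ Spec (CommRingCat.of k))
  haveI := hπp
  let ρ : X' ⟶ X := π ≫ J.subschemeι
  letI : X'.Over (Spec (CommRingCat.of k)) := ⟨ρ ≫ (X ↘ Spec (CommRingCat.of k))⟩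
  haveI : IsProper (X' ↘ Spec (CommRingCat.of k)) :=
    (inferInstanceAs (IsProper (ρ ≫ (X ↘ Spec (CommRingCat.of k)))))
  haveI := EulerIneqLib.isNoetherian_proper (X := X') k
  have hjf' : j ≫ CohB1.ProjSpaceOver.toBase n (Spec (CommRingCat.of k)) = X' ↘ Spec (CommRingCat.of k) :=
    hjf.trans (Category.assoc _ _ _).symm
  haveI := hj
  haveI : IsProper (j ≫ CohB1.ProjSpaceOver.toBase n (Spec (CommRingCat.of k))) := hjf'.symm ▸ inferInstance
  haveI : IsProper j := IsProper.of_comp j (CohB1.ProjSpaceOver.toBase n (Spec (CommRingCat.of k)))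
  haveI : IsClosedImmersion j := .of_isPreimmersion j j.isClosedMap.isClosed_range
  have hA := AmpleLib.isAmple_pullback j (AmpleEmb.isAmple_twistOver (Y := Spec (CommRingCat.of k)) n)
  have hρn := numTriv_pullback_proper k ρ rfl hA hL hn
  have hgU : genericPoint J.subscheme ∈ U := ((genericPoint_spec J.subscheme).mem_open_set_iff U.isOpen).2
    (by rw [Set.univ_inter]; exact hU.nonempty)
  obtain ⟨ζ, hζ⟩ := hπs.surj (genericPoint J.subscheme)
  have hρζ : J.subschemeι (π ζ) = ξ := by
    rw [hζ]
    refine (IsGenericPoint.eq ?_ (isGenericPoint_closure (x := ξ)))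
    have h1 := (genericPoint_spec J.subscheme).image J.subschemeι.continuous
    rwa [Set.image_univ, J.range_subschemeι, H1ZeroLib.support_vanishingIdeal',
      Closeds.coe_mk, closure_closure] at h1
  have hP := IntLib.isPiece_compMod ζ
  haveI : HasInjectiveResolutions X'.Modules := inferInstance
  obtain ⟨t, ht⟩ := Nakai.exists_rAcyclic ρ hA hP.coh
  have hT := AmpleLib.isInvertible_tensorPow hA.1 t
  have hN := CurveLib.isCoh_tmod hP.coh (CurveLib.isCoh_of_isInvertible hT)
  haveI := hN.1
  have hsN := HilbLib.support_tensor hT (compMod ζ)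
  refine ⟨(Scheme.Modules.pushforward ρ).obj _, RpushLib.isCoh_push ρ hN, ?_, ?_, ?_⟩
  · have h1 : π ζ ∈ CohB1.support ((Scheme.Modules.pushforward π).obj (CohB1.tensorMod (compMod ζ) (CohB1.tensorPow _ t))) :=
      Nakai.mem_support_push π U (hζ ▸ hgU) (hsN.ge (fun hs => by
        haveI := hP.simple
        haveI := IsSimpleModule.nontrivial (X'.presheaf.stalk ζ) ((compMod ζ).presheaf.stalk ζ)
        exact not_subsingleton _ hs))
    intro hs
    haveI : Subsingleton (((Scheme.Modules.pushforward J.subschemeι).obj ((Scheme.Modules.pushforward π).obj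
        (CohB1.tensorMod (compMod ζ) (CohB1.tensorPow _ t)))).presheaf.stalk (J.subschemeι (π ζ))) := hρζ.symm ▸ hs
    exact h1 (bijective_pushStalk J.subschemeι _ (π ζ)).2.subsingleton
  · refine Nakai.support_push_subset ρ isClosed_closure fun x' hx' => ?_
    rw [hsN] at hx'
    have h1 : ρ ζ ⤳ ρ x' := (hP.supp x' hx').map ρ.continuous
    rw [show ρ ζ = ξ from (Scheme.Hom.comp_apply _ _ _).trans hρζ] at h1
    exact specializes_iff_mem_closure.1 h1
  · rw [Nakai.pairing_proper_push ρ k rfl hN (ht t le_rfl), Nakai.pullRing_cl ρ hL, Nakai.pairing_cl,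
      euler_tensor_eq k hA hN (AmpleLib.isInvertible_pullback ρ hL) hρn, sub_self]

theorem pairing_cl_eq_zero_of_dim {L : X.Modules} (hL : PicF.IsInvertible L) (hn : Pic13.IsNumEquivZero k X L) :
    ∀ d : ℕ, ∀ F : X.Modules, Coh.IsCoh F → topologicalKrullDim (CohB1.support F) < (d : WithBot ℕ∞) →
      pairing k F (cl hL) = 0 := by
  haveI := EulerIneqLib.isNoetherian_proper (X := X) k
  intro d
  induction d with
  | zero =>
    intro F hF hd
    exact Nakai.pairing_mem_eq_zero k (n := 0) (by rw [pow_zero, Ideal.one_eq_top]; trivial) hF hd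
  | succ d IH =>
    intro F hF hd
    refine DevLib.devissage (CohB1.support F) (fun N => pairing k N (cl hL) = 0)
      (fun A B ⟨e⟩ hA => by rwa [← IntLib.pairing_iso k e]) (fun A hA => IntLib.pairing_isZero k hA _)
      (fun S hS h₁ h₂ h₃ _ a b => by rw [IntLib.pairing_shortExact k hS h₁ h₂ h₃, a, b, add_zero])
      (fun ξ _ hsub Q hQ _ => ?_) F hF subset_rfl
    have hdξ : topologicalKrullDim (closure {ξ} : Set X) < ((d + 1 : ℕ) : WithBot ℕ∞) :=
      HilbLib.isClosed_closure_le hsub hd
    have small : ∀ N : X.Modules, Coh.IsCoh N → (∀ y ∈ CohB1.support N, ξ ⤳ y) → ξ ∉ CohB1.support N →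
        pairing k N (cl hL) = 0 := fun N hN hs hξ => IH N hN
      (HilbLib.dim_lt_of_notMem (isClosed_support hN) (fun y hy => specializes_iff_mem_closure.1 (hs y hy)) hξ hdξ)
    have same : ∀ Q' : X.Modules, IsPiece ξ Q' → pairing k Q' (cl hL) = pairing k Q (cl hL) := fun Q' hQ' => by
      obtain ⟨H, p, q, hH, hp, hq, hps, hqs⟩ := exists_common hQ hQ'
      rw [IntLib.pairing_coker k p hH hQ.coh, IntLib.pairing_coker k q hH hQ'.coh,
        small _ (isCoh_kernel_cokernel p hH hQ.coh).2 (supp_coker p hQ.supp) (notMem_support_coker p hps),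
        small _ (isCoh_kernel_cokernel q hH hQ'.coh).2 (supp_coker q hQ'.supp) (notMem_support_coker q hqs)]
    obtain ⟨G, hG, hξG, hsG, hG0⟩ := exists_pairing_zero k hL hn ξ
    have hdev : ∃ m : ℕ, pairing k G (cl hL) = (m : ℤ) * pairing k Q (cl hL) ∧ (ξ ∈ CohB1.support G → 0 < m) := by
      refine DevLib.devissage (closure {ξ}) (fun N => ∃ m : ℕ,
        pairing k N (cl hL) = (m : ℤ) * pairing k Q (cl hL) ∧ (ξ ∈ CohB1.support N → 0 < m)) ?_ ?_ ?_ ?_ G hG hsG
      · rintro A B ⟨e⟩ ⟨m, hm, hm'⟩
        exact ⟨m, (IntLib.pairing_iso k e _).symm.trans hm, fun h => hm' fun hs =>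
          h (HilbLib.stalkLin_bijective_of_iso e ξ).surjective.subsingleton⟩
      · intro A hA
        exact ⟨0, by rw [IntLib.pairing_isZero k hA]; simp, fun h => absurd h (by
          rw [HilbLib.support_eq_empty_of_isZero hA]; exact Set.notMem_empty _)⟩
      · rintro S hS h₁ h₂ h₃ - ⟨a, ha, ha'⟩ ⟨b, hb, hb'⟩
        refine ⟨a + b, by rw [IntLib.pairing_shortExact k hS h₁ h₂ h₃, ha, hb]; push_cast; ring, fun h => ?_⟩
        rw [support_X₂ hS] at h
        rcases h with h | h
        · have := ha' h; omega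
        · have := hb' h; omega
      · intro η hη _ Q' hQ' _
        by_cases he : η = ξ
        · subst he
          exact ⟨1, by rw [same Q' hQ']; simp, fun _ => one_pos⟩
        · have hno : ξ ∉ closure ({η} : Set X) := fun hm =>
            he ((specializes_iff_mem_closure.2 hm).antisymm (specializes_iff_mem_closure.2 hη)).eq
          refine ⟨0, ?_, fun h => absurd (specializes_iff_mem_closure.1 (hQ'.supp _ h)) hno⟩
          rw [Nat.cast_zero, zero_mul]
          exact IH Q' hQ'.coh (Nakai.dim_supp_le hQ'.supp (HilbLib.dim_lt_of_notMem isClosed_closure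
            (closure_minimal (Set.singleton_subset_iff.2 hη) isClosed_closure) hno hdξ))
    obtain ⟨m, hm, hm'⟩ := hdev
    rw [hG0] at hm
    exact (mul_eq_zero.1 hm.symm).resolve_left (by exact_mod_cast (hm' hξG).ne')

/-- Numerically trivial modules preserve Euler characteristics. -/
theorem euler_tensor_eq_proper {L : X.Modules} (hL : PicF.IsInvertible L) (hn : Pic13.IsNumEquivZero k X L)
    {F : X.Modules} (hF : Coh.IsCoh F) {d : ℕ} (hd : topologicalKrullDim X ≤ (d : WithBot ℕ∞)) :
    Curv2.euler k X (CohB1.tensorMod F L) = Curv2.euler k X F := by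
  have h := pairing_cl_eq_zero_of_dim k hL hn (d + 1) F hF (lt_of_le_of_lt
    (Topology.IsInducing.subtypeVal.topologicalKrullDim_le.trans hd) (by exact_mod_cast Nat.lt_succ_self d))
  rwa [Nakai.pairing_cl, sub_eq_zero] at h

end Groth.Agent.NumBdd
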