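import Groth.Agent.VolLib.NumInv
import Groth.Agent.NakaiLib.Main

/-!
# Numerically trivial invertible modules and sections of inverses of ample modules
-/

set_option autoImplicit false
set_option backward.isDefEq.respectTransparency false
set_option linter.style.haveILetI false

universe u

open CategoryTheory CategoryTheory.Limits AlgebraicGeometry TopologicalSpace
open Groth.Agent.DCohLib Groth.Agent.AmpleLib
open Groth.Agent.IntLib (PicRing pairing dif inv')

noncomputable section

namespace Groth.Agent.NumBdd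

variable (k : Type u) [Field k] {X : Scheme.{u}} [X.Over (Spec (CommRingCat.of k))]
  [IsProper (X ↘ Spec (CommRingCat.of k))]

theorem dim_supp_push {Y : Scheme.{u}} (i : Y ⟶ X) [IsClosedImmersion i] {n : ℕ}
    (hY : topologicalKrullDim Y = (n : WithBot ℕ∞)) :
    topologicalKrullDim (CohB1.support ((Scheme.Modules.pushforward i).obj (Coh.structureModule Y))) <
      ((n + 1 : ℕ) : WithBot ℕ∞) := by
  refine lt_of_le_of_lt ((Topology.IsEmbedding.inclusion
    (IntLib.support_pushforward_subset i _)).isInducing.topologicalKrullDim_le.trans (le_of_eq ?_))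
    (show (n : WithBot ℕ∞) < _ by exact_mod_cast Nat.lt_succ_self n)
  rw [← hY]
  exact (i.isEmbedding.toHomeomorph).isHomeomorph.topologicalKrullDim_eq.symm

theorem numTriv_congr {L M : X.Modules} (hL : PicF.IsInvertible L) (hM : PicF.IsInvertible M) (e : L ≅ M)
    (h : Pic13.IsNumEquivZero k X L) : Pic13.IsNumEquivZero k X M := fun Y i _ hY hd => by
  have hd' : topologicalKrullDim Y = ((1 : ℕ) : WithBot ℕ∞) := hd.trans Nat.cast_one.symm
  have h1 := h Y i hY hd
  rw [Nakai.curveDeg_eq k hL i hd'] at h1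
  rwa [Nakai.curveDeg_eq k hM i hd', ← Nakai.cl_congr hL hM e]

theorem numTriv_unit : Pic13.IsNumEquivZero k X (Coh.structureModule X) := fun Y i _ _ hd => by
  rw [Nakai.curveDeg_eq k ParaFLib.isInvertible_structureModule i (hd.trans Nat.cast_one.symm), Nakai.cl,
    show inv' (ParaFLib.isInvertible_structureModule (X := X)) = 1 from Subtype.ext IntLib.mk_structureModule,
    map_one, sub_self, map_zero]

theorem curveDeg_tensor {L M : X.Modules} (hL : PicF.IsInvertible L) (hM : PicF.IsInvertible M) {Y : Scheme.{u}}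
    (i : Y ⟶ X) [IsClosedImmersion i] (hd : topologicalKrullDim Y = ((1 : ℕ) : WithBot ℕ∞)) :
    Pic13.curveDeg k (i ≫ (X ↘ Spec (CommRingCat.of k))) ((Scheme.Modules.pullback i).obj (CohB1.tensorMod L M)) =
      Pic13.curveDeg k (i ≫ (X ↘ Spec (CommRingCat.of k))) ((Scheme.Modules.pullback i).obj L) +
      Pic13.curveDeg k (i ≫ (X ↘ Spec (CommRingCat.of k))) ((Scheme.Modules.pullback i).obj M) := by
  haveI := EulerIneqLib.isNoetherian_proper (X := X) k
  haveI : IsLocallyNoetherian Y := LocallyOfFiniteType.isLocallyNoetherian i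
  rw [Nakai.curveDeg_eq k (isInvertible_tensor hL hM) i hd, Nakai.curveDeg_eq k hL i hd,
    Nakai.curveDeg_eq k hM i hd, Nakai.cl_tensor hL hM, map_add, map_add, add_eq_left]
  exact Nakai.pairing_mem_eq_zero k (n := 2)
    (by rw [pow_two]; exact Ideal.mul_mem_mul (Nakai.cl_mem _) (Nakai.cl_mem _))
    (DevLib.isCoh_pushforward_closed i (DevLib.isCoh_structureModule Y)) (dim_supp_push i hd)

theorem numTriv_tensor {L M : X.Modules} (hL : PicF.IsInvertible L) (hM : PicF.IsInvertible M)
    (h₁ : Pic13.IsNumEquivZero k X L) (h₂ : Pic13.IsNumEquivZero k X M) :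
    Pic13.IsNumEquivZero k X (CohB1.tensorMod L M) := fun Y i _ hY hd => by
  rw [curveDeg_tensor k hL hM i (hd.trans Nat.cast_one.symm), h₁ Y i hY hd, h₂ Y i hY hd, add_zero]

theorem numTriv_inverse {L M : X.Modules} (hL : PicF.IsInvertible L) (hM : PicF.IsInvertible M)
    (e : CohB1.tensorMod L M ≅ Coh.structureModule X) (h : Pic13.IsNumEquivZero k X L) :
    Pic13.IsNumEquivZero k X M := fun Y i _ hY hd => by
  have h1 := numTriv_congr k ParaFLib.isInvertible_structureModule (isInvertible_tensor hL hM) e.symm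
    (numTriv_unit k) Y i hY hd
  rwa [curveDeg_tensor k hL hM i (hd.trans Nat.cast_one.symm), h Y i hY hd, zero_add] at h1

theorem numTriv_pow {L : X.Modules} (hL : PicF.IsInvertible L) (h : Pic13.IsNumEquivZero k X L) :
    ∀ m : ℕ, Pic13.IsNumEquivZero k X (CohB1.tensorPow L m)
  | 0 => numTriv_unit k
  | m + 1 => numTriv_tensor k (isInvertible_tensorPow hL m) hL (numTriv_pow hL h m) h

theorem numTriv_pullback {L : X.Modules} (h : Pic13.IsNumEquivZero k X L) {Z : Scheme.{u}}
    [Z.Over (Spec (CommRingCat.of k))] (i : Z ⟶ X) [IsClosedImmersion i]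
    (hi : i ≫ (X ↘ Spec (CommRingCat.of k)) = Z ↘ Spec (CommRingCat.of k)) (hL : PicF.IsInvertible L) :
    Pic13.IsNumEquivZero k Z ((Scheme.Modules.pullback i).obj L) := fun Y j _ hY hd => by
  haveI : IsProper (Z ↘ Spec (CommRingCat.of k)) := hi ▸ inferInstanceAs (IsProper (i ≫ _))
  have h1 := h Y (j ≫ i) hY hd
  rw [Category.assoc, hi] at h1
  refine Eq.trans ?_ h1
  letI : Y.Over (Spec (CommRingCat.of k)) := ⟨j ≫ (Z ↘ Spec (CommRingCat.of k))⟩
  show FGA.eulerCharLE k Y _ 1 - FGA.eulerCharLE k Y _ 1 = FGA.eulerCharLE k Y _ 1 - FGA.eulerCharLE k Y _ 1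
  haveI : IsProper (Y ↘ Spec (CommRingCat.of k)) := inferInstanceAs (IsProper (j ≫ _))
  rw [HilbLib.eulerCharLE_eq k _ hd.le, HilbLib.eulerCharLE_eq k _ hd.le, HilbLib.eulerCharLE_eq k _ hd.le]
  exact congrArg (· - _) (CurveLib.euler_iso (K := k) ((Scheme.Modules.pullbackComp j i).app L))

/-- An invertible module with an ample inverse has no sections in positive dimension. -/
theorem h_inverse_ample_eq_zero [IsIntegral X] {d : ℕ} (hd : topologicalKrullDim X = (d : WithBot ℕ∞))
    (hd0 : 0 < d) {A A' : X.Modules} (hA : CohB1.IsAmple A) (hA' : PicF.IsInvertible A')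
    (e : CohB1.tensorMod A A' ≅ Coh.structureModule X) : VolLib.h k A' = 0 := by
  by_contra hne
  haveI := EulerIneqLib.isNoetherian_proper (X := X) k
  have hdim : topologicalKrullDim (CohB1.support (Coh.structureModule X)) < ((d + 1 : ℕ) : WithBot ℕ∞) :=
    lt_of_le_of_lt (Topology.IsInducing.subtypeVal.topologicalKrullDim_le.trans hd.le)
      (by exact_mod_cast Nat.lt_succ_self d)
  obtain ⟨P, -, hP⟩ := HilbLib.exists_poly k hA.1 (d + 1) _ (DevLib.isCoh_structureModule X) hdim
  have hc : 0 < P.coeff d := Nakai.topPos_of_isAmple k hA d hd0 hd P hP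
  obtain ⟨n₀, hn₀⟩ := Nakai.good_of_isAmple (k := k) hA (DevLib.isCoh_structureModule X)
  set H := VolLib.h k (Coh.structureModule X)
  have hb : ∀ m : ℕ, VolLib.h k (CohB1.tensorPow A m) ≤ H := fun m =>
    (VolLib.h_le_tensor k (isInvertible_tensorPow hA.1 m) (isInvertible_tensorPow hA' m)
      (by cases m with
        | zero => exact VanGrow.h_unit_ne_zero k
        | succ m => exact VolLib.h_pow_ne_zero k hA' hne m)).trans_eq
      (VolLib.h_congr k ((powTensor A A' m).symm ≪≫ powCongr e m ≪≫ powUnit m))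
  have hval : ∀ m : ℕ, n₀ ≤ m → P.eval (m : ℚ) = (VolLib.h k (CohB1.tensorPow A m) : ℚ) := fun m hm => by
    rw [← hP m]
    show ((Curv2.euler k X (CohB1.tensorMod (Coh.structureModule X) (CohB1.tensorPow A m)) : ℤ) : ℚ) = _
    rw [CurveLib.euler_eq_sum (K := k) _ 1 fun p hp => hn₀ m hm p (by omega), Finset.sum_range_one, pow_zero,
      one_mul, ← VolLib.h_congr k (unitL (CohB1.tensorPow A m))]
    rfl
  obtain ⟨c, hcinf⟩ := Finite.exists_infinite_fiber fun m : ℕ =>
    (⟨VolLib.h k (CohB1.tensorPow A (n₀ + m)), Nat.lt_succ_of_le (hb _)⟩ : Fin (H + 1))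
  have hPc : P = Polynomial.C ((c : ℕ) : ℚ) := by
    refine Polynomial.eq_of_infinite_eval_eq _ _ (Set.Infinite.mono ?_ ((Set.infinite_coe_iff.1 hcinf).image
      (f := fun m : ℕ => ((n₀ + m : ℕ) : ℚ)) (fun a _ b _ h => by simpa using h)))
    rintro _ ⟨m, hm, rfl⟩
    show Polynomial.eval _ _ = Polynomial.eval _ _
    rw [Polynomial.eval_C, hval _ (Nat.le_add_right _ _),
      ← show VolLib.h k (CohB1.tensorPow A (n₀ + m)) = (c : ℕ) from congrArg Fin.val hm]
  rw [hPc, Polynomial.coeff_C, if_neg hd0.ne'] at hc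
  exact lt_irrefl _ hc

end Groth.Agent.NumBdd
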