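import Groth.Agent.NakaiLib.GenGrowth
import Groth.Agent.VanGrowLib.Main
import Groth.Agent.CMRegLib.Seq

/-!
# Cutting a coherent module by a general section
-/

set_option autoImplicit false
set_option backward.isDefEq.respectTransparency false
set_option linter.style.haveILetI false

universe u

open CategoryTheory CategoryTheory.Limits AlgebraicGeometry TopologicalSpace
open Groth.Agent.PullbackMod Groth.Agent.DCohLib Groth.Agent.AmpleLib
open Groth.Agent.ParaFLib (oneG bijective_oneG)
open scoped TensorProduct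

noncomputable section

namespace Groth.Agent.NumBdd

variable {X : Scheme.{u}}

theorem bijective_mulS {F P : X.Modules} (hP : PicF.IsInvertible P) (t : Coh.structureModule X ⟶ P) {y : X}
    (hy : y ∈ CohB1.genLocus P t) :
    Function.Bijective (stalkLin ((AmpleLib.unitR F).inv ≫ CurveLib.mulS F t) y) := by
  have hb := (AmpleLib.mem_genLocus_iff hP).1 hy
  have hone : stalkLin t y (oneG y) = P.presheaf.germ ⊤ y trivial (AmpleLib.sec t) :=
    stalkLin_germ t (U := ⊤) y trivial _
  have htb : Function.Bijective (stalkLin t y) := by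
    refine ⟨(injective_iff_map_eq_zero _).2 fun z hz => ?_, fun z => ?_⟩
    · obtain ⟨r, rfl⟩ := (bijective_oneG y).2 z
      rw [map_smul, hone] at hz
      have hr : r = 0 := hb.1 (hz.trans (zero_smul _ _).symm)
      rw [hr]; exact zero_smul _ _
    · obtain ⟨r, rfl⟩ := hb.2 z
      exact ⟨r • oneG y, by rw [map_smul, hone]⟩
  rw [stalkLin_comp, LinearMap.coe_comp]
  refine Function.Bijective.comp ?_ (HilbLib.stalkLin_bijective_of_iso (AmpleLib.unitR F).symm y)
  have e' : (stalkLin (CurveLib.mulS F t) y) ∘ (stalkTensor y F (Coh.structureModule X)) =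
      (stalkTensor y F P) ∘ ((LinearEquiv.ofBijective _ htb).lTensor (F.presheaf.stalk y)) :=
    funext fun z => stalkTensor_natural_right y t z
  refine (Function.Bijective.of_comp_iff _ (stalkTensor y F (Coh.structureModule X)).bijective).1 ?_
  exact (congrArg Function.Bijective e').mpr ((stalkTensor y F P).bijective.comp (LinearEquiv.bijective _))

/-- Maximal points of a closed set. -/
theorem exists_max_points [IsNoetherian X] {T : Set X} (hT : IsClosed T) :
    ∃ M : Finset X, (∀ η ∈ M, η ∈ T) ∧ ∀ y ∈ T, ∃ η ∈ M, η ⤳ y := by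
  classical
  obtain ⟨S, hirr, hsup⟩ := NoetherianSpace.exists_finset_irreducible (⟨T, hT⟩ : Closeds X)
  have hmem : ∀ y, y ∈ T ↔ ∃ c ∈ S, y ∈ c := fun y => by
    rw [← DevLib.mem_sup_closeds, ← hsup]
    rfl
  choose g hg using fun c : S => QuasiSober.sober (hirr c) c.1.isClosed
  refine ⟨S.attach.image g, fun η hη => ?_, fun y hy => ?_⟩
  · obtain ⟨c, -, rfl⟩ := Finset.mem_image.1 hη
    exact (hmem _).2 ⟨c, c.2, (hg c).mem⟩
  · obtain ⟨c, hc, hyc⟩ := (hmem y).1 hy
    exact ⟨g ⟨c, hc⟩, Finset.mem_image_of_mem _ (Finset.mem_attach _ ⟨c, hc⟩), (hg ⟨c, hc⟩).specializes hyc⟩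

/-- A closed subset missing the maximal points has smaller dimension. -/
theorem dim_lt_of_avoid [IsNoetherian X] {T C : Set X} (hT : IsClosed T) (hC : IsClosed C) (hsub : C ⊆ T)
    {M : Finset X} (hM : ∀ η ∈ M, η ∈ T) (hcov : ∀ y ∈ T, ∃ η ∈ M, η ⤳ y) (hav : ∀ η ∈ M, η ∉ C) {d : ℕ}
    (hd : topologicalKrullDim T < ((d + 1 : ℕ) : WithBot ℕ∞)) :
    topologicalKrullDim C < (d : WithBot ℕ∞) := by
  by_contra h
  obtain ⟨p, hp, hp'⟩ := (HilbLib.not_dim_lt_iff hC d).1 h
  obtain ⟨η, hη, hηp⟩ := hcov _ (hsub (hp (Fin.last d)))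
  refine (HilbLib.not_dim_lt_iff hT (d + 1)).2 ⟨Fin.snoc p η, fun i => ?_, fun i j hij => ?_⟩ hd
  · induction i using Fin.lastCases with
    | last => rw [Fin.snoc_last]; exact hM η hη
    | cast i => rw [Fin.snoc_castSucc]; exact hsub (hp i)
  · induction j using Fin.lastCases with
    | last =>
      induction i using Fin.lastCases with
      | last => exact absurd hij (lt_irrefl _)
      | cast i =>
        rw [Fin.snoc_last, Fin.snoc_castSucc]
        refine ⟨?_, fun eq => hav η hη (eq ▸ hp i)⟩
        rcases (Fin.le_last i).eq_or_lt with rfl | hi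
        · exact hηp
        · exact hηp.trans (hp' _ _ hi).1
    | cast j =>
      induction i using Fin.lastCases with
      | last => exact absurd hij (not_lt.2 (Fin.le_last _))
      | cast i =>
        rw [Fin.snoc_castSucc, Fin.snoc_castSucc]
        exact hp' i j (Fin.castSucc_lt_castSucc_iff.1 hij)

variable (k : Type u) [Field k] [Infinite k] [X.Over (Spec (CommRingCat.of k))]
  [IsProper (X ↘ Spec (CommRingCat.of k))]

include k in
/-- A general section of a generated module avoids finitely many points. -/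
theorem exists_section_avoid {P : X.Modules} (hP : PicF.IsInvertible P) (hg : Curv2.IsGloballyGenerated P)
    {Z : Set X} (hZ : Z.Finite) : ∃ t : Coh.structureModule X ⟶ P, Z ⊆ CohB1.genLocus P t := by
  haveI := hZ.to_subtype
  obtain ⟨c, hc⟩ := Submodule.exists_forall_notMem_of_forall_ne_top
    (fun z : Z => Nakai.zeroAt k P (z : X)) fun z h => by
      obtain ⟨t, ht⟩ := AmpleLib.exists_genLocus_of_isGloballyGenerated hP hg (z : X)
      have hm : (CurveLib.secOf P).symm (sec t) ∈ Nakai.zeroAt k P (z : X) := h ▸ Submodule.mem_top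
      rw [Nakai.mem_zeroAt_iff k hP, AddEquiv.apply_symm_apply, secHom_sec] at hm
      exact hm ht
  refine ⟨secHom P (CurveLib.secOf P c), fun z hz => ?_⟩
  by_contra hn
  exact hc ⟨z, hz⟩ ((Nakai.mem_zeroAt_iff k hP).2 hn)

include k in
/-- A general section of a generated module is regular on a given module and lowers the dimension. -/
theorem exists_cut_module {P D : X.Modules} (hP : PicF.IsInvertible P) (hg : Curv2.IsGloballyGenerated P)
    (hD : Coh.IsCoh D) {d : ℕ} (hd : topologicalKrullDim (CohB1.support D) < ((d + 1 : ℕ) : WithBot ℕ∞)) :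
    ∃ μ : D ⟶ CohB1.tensorMod D P, Mono μ ∧ Coh.IsCoh (cokernel μ) ∧
      topologicalKrullDim (CohB1.support (cokernel μ)) < (d : WithBot ℕ∞) := by
  haveI := EulerIneqLib.isNoetherian_proper (X := X) k
  have hcl := DevLib.isClosed_support hD
  obtain ⟨M, hMT, hMcov⟩ := exists_max_points hcl
  obtain ⟨t, ht⟩ := exists_section_avoid k hP hg ((VanGrow.finite_ass hD).union M.finite_toSet)
  let μ : D ⟶ CohB1.tensorMod D P := (AmpleLib.unitR D).inv ≫ CurveLib.mulS D t
  have hμ : Mono μ := VanGrow.mono_mulS hD hP t (fun x hx => ht (Or.inl hx))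
  have hC := (QCohLib.isCoh_kernel_cokernel μ hD (CMRegLib.isCoh_tensor_inv hD hP)).2
  refine ⟨μ, hμ, hC, dim_lt_of_avoid hcl (DevLib.isClosed_support hC) ?_ hMT hMcov (fun η hη => ?_) hd⟩
  · exact (DevLib.support_coker_subset μ).trans (HilbLib.support_tensor hP D).le
  · exact DevLib.notMem_support_coker μ (bijective_mulS hP t (ht (Or.inr hη))).2

end Groth.Agent.NumBdd
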