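import Groth.Agent.CMRegLib.FamilyHilb
import Groth.Agent.IntLib.Pairing

/-!
# Euler characteristics in bounded families
-/

set_option autoImplicit false
set_option backward.isDefEq.respectTransparency false
set_option linter.style.haveILetI false

universe u

open CategoryTheory CategoryTheory.Limits AlgebraicGeometry
open Groth.Agent.IntLib (PicRing pairing inv')

noncomputable section

namespace Groth.Agent.NumBdd

variable (k : Type u) [Field k] {X : Scheme.{u}} [X.Over (Spec (CommRingCat.of k))]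
  [IsProper (X ↘ Spec (CommRingCat.of k))]

/-- The Euler characteristics of the members of a bounded family form a finite set. -/
theorem finite_euler_of_bounded {P : X.Modules → Prop} (hb : Pic13.IsBounded k X P) :
    (Curv2.euler k X '' {F | P F}).Finite := by
  obtain ⟨T, q, hq, hqc, G, hG, hmem⟩ := hb
  haveI := hq
  haveI := hqc
  haveI : CompactSpace T := QuasiCompact.compactSpace_of_compactSpace q
  haveI : IsLocallyNoetherian T := LocallyOfFiniteType.isLocallyNoetherian q
  let f : Pic13.prodK k X q ⟶ T := pullback.snd _ _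
  haveI : IsProper f := MorphismProperty.pullback_snd (P := @IsProper) _ _ inferInstance
  haveI : LocallyOfFinitePresentation f :=
    MorphismProperty.pullback_snd (P := @LocallyOfFinitePresentation) _ _ inferInstance
  haveI : IsLocallyNoetherian (Pic13.prodK k X q) := LocallyOfFiniteType.isLocallyNoetherian f
  have hO : PicF.IsInvertible (Coh.structureModule (Pic13.prodK k X q)) := ParaFLib.isInvertible_structureModule
  have hfin := HilbStratLib.finite_range f (QCohLib.isFP_of_isCoh G hG) hO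
  refine (hfin.image (fun g => g 0)).subset ?_
  rintro _ ⟨F, hF, rfl⟩
  obtain ⟨t, ht, ⟨eF⟩⟩ := hmem F hF
  refine ⟨_, ⟨t (IsLocalRing.closedPoint k), rfl⟩, ?_⟩
  let σ := Pic13.sliceAt k X q t ht
  have hsq : IsPullback σ (X ↘ Spec (CommRingCat.of k)) f t :=
    IsPullback.of_right (h₁₂ := pullback.fst (X ↘ Spec (CommRingCat.of k)) q) (v₁₃ := X ↘ Spec (CommRingCat.of k))
      (h₂₂ := q) (by
        rw [show σ ≫ pullback.fst _ _ = 𝟙 X from pullback.lift_fst _ _ _, ht]
        exact IsPullback.id_horiz _)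
      (pullback.lift_snd _ _ _) (IsPullback.of_hasPullback (X ↘ Spec (CommRingCat.of k)) q).flip.flip
  show HilbStratLib.eul f G _ (t (IsLocalRing.closedPoint k)) 0 = _
  rw [← HilbStratLib.eul_baseChange hsq (QCohLib.isFP_of_isCoh G hG) hO (IsLocalRing.closedPoint k),
    CMRegLib.eul_point (PullbackMod.isCoh_pullback σ G hG) (AmpleLib.isInvertible_pullback σ hO) 0]
  exact CurveLib.euler_iso (K := k) (AmpleLib.unitR _ ≪≫ eF)

/-- Twisting by a fixed module keeps a family bounded. -/
theorem isBounded_twist {P : X.Modules → Prop} (hb : Pic13.IsBounded k X P) {N : X.Modules} (hN : Coh.IsCoh N) :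
    Pic13.IsBounded k X fun F => ∃ L, P L ∧ Nonempty (CohB1.tensorMod L N ≅ F) := by
  obtain ⟨T, q, hq, hqc, G, hG, hmem⟩ := hb
  refine ⟨T, q, hq, hqc, CohB1.tensorMod G ((Scheme.Modules.pullback (pullback.fst _ _)).obj N), ?_, ?_⟩
  · exact CurveLib.isCoh_tmod hG (PullbackMod.isCoh_pullback _ N hN)
  · rintro F ⟨L, hL, ⟨e⟩⟩
    obtain ⟨t, ht, ⟨eL⟩⟩ := hmem L hL
    exact ⟨t, ht, ⟨AmpleLib.pullTensor _ _ _ ≪≫ AmpleLib.tIso eL
      ((Scheme.Modules.pullbackComp (Pic13.sliceAt k X q t ht) _).app N ≪≫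
        (Scheme.Modules.pullbackCongr (pullback.lift_fst _ _ _)).app N ≪≫ (Scheme.Modules.pullbackId X).app N) ≪≫ e⟩⟩

/-- Tensor squares of a bounded family are bounded. -/
theorem isBounded_square {P : X.Modules → Prop} (hb : Pic13.IsBounded k X P) :
    Pic13.IsBounded k X fun F => ∃ L, P L ∧ Nonempty (CohB1.tensorMod L L ≅ F) := by
  obtain ⟨T, q, hq, hqc, G, hG, hmem⟩ := hb
  refine ⟨T, q, hq, hqc, CohB1.tensorMod G G, CurveLib.isCoh_tmod hG hG, ?_⟩
  rintro F ⟨L, hL, ⟨e⟩⟩
  obtain ⟨t, ht, ⟨eL⟩⟩ := hmem L hL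
  exact ⟨t, ht, ⟨AmpleLib.pullTensor _ _ _ ≪≫ AmpleLib.tIso eL eL ≪≫ e⟩⟩

/-- A fixed element of the group ring pairs with a bounded family to finitely many values. -/
theorem finite_pairing_of_bounded {P : X.Modules → Prop} (hb : Pic13.IsBounded k X P) (z : PicRing X) :
    ((fun L => pairing k L z) '' {L | P L}).Finite := by
  haveI := EulerIneqLib.isNoetherian_proper (X := X) k
  induction z using MonoidAlgebra.induction_on with
  | of g =>
    obtain ⟨c, G, hG, rfl⟩ := g
    refine (finite_euler_of_bounded k (isBounded_twist k hb (CurveLib.isCoh_of_isInvertible hG))).subset ?_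
    rintro _ ⟨L, hL, rfl⟩
    exact ⟨CohB1.tensorMod L G, ⟨L, hL, ⟨Iso.refl _⟩⟩, ((IntLib.pairing_of k L _).trans
      (by show IntLib.chiC k (IntLib.mk L * IntLib.mk G) = _; rw [← IntLib.mk_tensor]; rfl)).symm⟩
  | add a b ha hb' =>
    refine (ha.image2 (· + ·) hb').subset ?_
    rintro _ ⟨L, hL, rfl⟩
    exact ⟨_, ⟨L, hL, rfl⟩, _, ⟨L, hL, rfl⟩, (map_add _ _ _).symm⟩
  | smul n a ha =>
    refine (ha.image (n * ·)).subset ?_
    rintro _ ⟨L, hL, rfl⟩
    exact ⟨_, ⟨L, hL, rfl⟩, ((map_zsmul (pairing k L) n a).trans (smul_eq_mul _ _)).symm⟩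

end Groth.Agent.NumBdd
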