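import Groth.Agent.NumBddLib.Cut
import Groth.Agent.VolLib.HiGrowth
import Groth.Agent.CMRegLib.OnX

/-!
# Uniform growth of cohomology in a family
-/

set_option autoImplicit false
set_option backward.isDefEq.respectTransparency false
set_option linter.style.haveILetI false

universe u

open CategoryTheory CategoryTheory.Limits AlgebraicGeometry TopologicalSpace
open Groth.Agent.DCohLib Groth.Agent.AmpleLib Groth.Agent.HiGrowth

noncomputable section

namespace Groth.Agent.NumBdd

variable (k : Type u) [Field k] {X : Scheme.{u}} [X.Over (Spec (CommRingCat.of k))]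

/-- `dim H^p` of a module twisted twice. -/
def hh2 (D A R : X.Modules) (p a b : ℕ) : ℕ :=
  Module.finrank k (Coh.HH X (CohB1.tensorMod (CohB1.tensorMod D (CohB1.tensorPow A a)) (CohB1.tensorPow R b)) p)

/-- Bounded initial cohomology. -/
def InitBdd (A R : X.Modules) (d C : ℕ) (D : X.Modules) : Prop :=
  ∀ p a b, a + b ≤ d → hh2 k D A R p a b ≤ C

theorem hh2_congr {D D' : X.Modules} (e : D ≅ D') (A R : X.Modules) (p a b : ℕ) :
    hh2 k D A R p a b = hh2 k D' A R p a b :=
  hh_congr k (tIso (tIso e (Iso.refl _)) (Iso.refl _)) p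

theorem hh2_left (D A R : X.Modules) (p a b : ℕ) :
    hh2 k (CohB1.tensorMod D A) A R p a b = hh2 k D A R p (a + 1) b :=
  hh_congr k (tIso (AmpleLib.assoc _ _ _ ≪≫ tIso (Iso.refl D) (comm A _)) (Iso.refl _)) p

theorem hh2_right (D A R : X.Modules) (p a b : ℕ) :
    hh2 k (CohB1.tensorMod D R) A R p a b = hh2 k D A R p a (b + 1) :=
  hh_congr k (tIso (AmpleLib.assoc _ _ _ ≪≫ tIso (Iso.refl D) (comm R _) ≪≫ (AmpleLib.assoc _ _ _).symm) (Iso.refl _) ≪≫
    AmpleLib.assoc _ _ _ ≪≫ tIso (Iso.refl _) (comm R _)) p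

theorem hh2_cancel (D A : X.Modules) {R R' : X.Modules} (e : CohB1.tensorMod R R' ≅ Coh.structureModule X)
    (p a b : ℕ) : hh2 k (CohB1.tensorMod D R) A R' p a (b + 1) = hh2 k D A R' p a b :=
  hh_congr k (tIso (AmpleLib.assoc _ _ _ ≪≫ tIso (Iso.refl D) (comm R _) ≪≫ (AmpleLib.assoc _ _ _).symm) (Iso.refl _) ≪≫
    AmpleLib.assoc _ _ _ ≪≫ tIso (Iso.refl _) (tIso (Iso.refl R) (comm _ R') ≪≫ (AmpleLib.assoc _ _ _).symm ≪≫
      tIso e (Iso.refl _) ≪≫ unitL _)) p

variable [IsProper (X ↘ Spec (CommRingCat.of k))]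

theorem ineqs2 {D D' : X.Modules} (μ : D ⟶ D') [Mono μ] (hD : Coh.IsCoh D) (hD' : Coh.IsCoh D')
    {A R : X.Modules} (hA : PicF.IsInvertible A) (hR : PicF.IsInvertible R) (p a b : ℕ) :
    hh2 k D A R p a b ≤ hh2 k D' A R p a b + hh2 k (cokernel μ) A R (p - 1) a b ∧
      hh2 k D' A R p a b ≤ hh2 k D A R p a b + hh2 k (cokernel μ) A R p a b ∧
      hh2 k (cokernel μ) A R p a b ≤ hh2 k D' A R p a b + hh2 k D A R (p + 1) a b := by
  haveI := EulerIneqLib.isNoetherian_proper (X := X) k
  have ha := isInvertible_tensorPow hA a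
  have hb := isInvertible_tensorPow hR b
  exact ineqs₀ k
    (CurveLib.shortExact_tensR (CurveLib.shortExact_tensR (CMRegLib.shortExact_coker μ)
      (CurveLib.freeAt_one_of_isInvertible ha)) (CurveLib.freeAt_one_of_isInvertible hb))
    (CMRegLib.isCoh_tensor_inv (CMRegLib.isCoh_tensor_inv hD ha) hb)
    (CMRegLib.isCoh_tensor_inv (CMRegLib.isCoh_tensor_inv hD' ha) hb)
    (CMRegLib.isCoh_tensor_inv (CMRegLib.isCoh_tensor_inv
      (QCohLib.isCoh_kernel_cokernel μ hD hD').2 ha) hb) p

omit [IsProper (X ↘ Spec (CommRingCat.of k))] in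
theorem B_succ_le (d s : ℕ) : B d (s + 1) ≤ 2 ^ d * B d s := by
  cases d with
  | zero => simp [B]
  | succ j =>
    show (s + 1 + 1) ^ j ≤ 2 ^ (j + 1) * (s + 1) ^ j
    calc (s + 1 + 1) ^ j ≤ (2 * (s + 1)) ^ j := Nat.pow_le_pow_left (by omega) j
      _ = 2 ^ j * (s + 1) ^ j := mul_pow _ _ _
      _ ≤ _ := Nat.mul_le_mul_right _ (Nat.pow_le_pow_right (by omega) j.le_succ)

/-- The constant of uniform growth; it depends only on the dimension and the initial bound. -/
def cst : ℕ → ℕ → ℕ
  | 0, _ => 0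
  | d + 1, C => C + cst d (2 * C) * 2 ^ d

/-- The cohomology grows with the dimension, with an explicit constant. -/
theorem family_bound_cst [Infinite k] {A R R' : X.Modules} (hA : PicF.IsInvertible A) (hAg : Curv2.IsGloballyGenerated A)
    (hR : PicF.IsInvertible R) (hRg : Curv2.IsGloballyGenerated R) (hR' : PicF.IsInvertible R')
    (e : CohB1.tensorMod R R' ≅ Coh.structureModule X) :
    ∀ d C : ℕ, ∀ D : X.Modules, Coh.IsCoh D →
      topologicalKrullDim (CohB1.support D) < (d : WithBot ℕ∞) → InitBdd k A R d C D →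
      ∀ p a b, hh2 k D A R' p a b ≤ cst d C * B d (a + b) := by
  haveI := EulerIneqLib.isNoetherian_proper (X := X) k
  intro d
  induction d with
  | zero =>
    refine fun C D hD hd _ p a b => ?_
    have hz : IsZero D := by
      haveI := hD.1
      refine DevLib.isZero_of_support_empty ?_
      by_contra hne
      obtain ⟨x, hx⟩ := Set.nonempty_iff_ne_empty.2 hne
      exact (HilbLib.not_dim_lt_iff (DevLib.isClosed_support hD) 0).2
        ⟨fun _ => x, fun _ => hx, fun i j h => absurd h (by omega)⟩ hd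
    have hz' := (CurveLib.tensR (CohB1.tensorPow R' b)).map_isZero
      ((CurveLib.tensR (CohB1.tensorPow A a)).map_isZero hz)
    haveI : Subsingleton (Coh.HH X (CohB1.tensorMod (CohB1.tensorMod D (CohB1.tensorPow A a))
        (CohB1.tensorPow R' b)) p) := subsingleton_HH_of_isZero hz' p
    rw [show cst 0 C = 0 from rfl, Nat.zero_mul]
    exact (Module.finrank_zero_of_subsingleton (R := k)).le
  | succ d ih =>
    intro C D hD hd hI
    rw [show cst (d + 1) C = C + cst d (2 * C) * 2 ^ d from rfl]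
    have hC' := ih (2 * C)
    generalize cst d (2 * C) = C' at hC' ⊢
    obtain ⟨μ, hμ, hcA, hdA⟩ := exists_cut_module k hA hAg hD hd
    obtain ⟨ν, hν, hcR, hdR⟩ := exists_cut_module k hR hRg hD hd
    haveI := hμ
    haveI := hν
    have hIA : InitBdd k A R d (2 * C) (cokernel μ) := fun p a b h => by
      have h1 := (ineqs2 k μ hD (CMRegLib.isCoh_tensor_inv hD hA) hA hR p a b).2.2
      rw [hh2_left] at h1
      have := hI p (a + 1) b (by omega)
      have := hI (p + 1) a b (by omega)
      omega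
    have hIR : InitBdd k A R d (2 * C) (cokernel ν) := fun p a b h => by
      have h1 := (ineqs2 k ν hD (CMRegLib.isCoh_tensor_inv hD hR) hA hR p a b).2.2
      rw [hh2_right] at h1
      have := hI p a (b + 1) (by omega)
      have := hI (p + 1) a b (by omega)
      omega
    have hA' := hC' _ hcA hdA hIA
    have hR'' := hC' _ hcR hdR hIR
    suffices key : ∀ s p a b, a + b = s → hh2 k D A R' p a b ≤ (C + C' * 2 ^ d) * B (d + 1) s from
      fun p a b => key _ p a b rfl
    intro s
    induction s with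
    | zero =>
      intro p a b hab
      obtain ⟨rfl, rfl⟩ : a = 0 ∧ b = 0 := by omega
      have h0 := hI p 0 0 (Nat.zero_le _)
      rw [show B (d + 1) 0 = 1 from one_pow d, Nat.mul_one]
      exact le_trans h0 (Nat.le_add_right _ _)
    | succ s ihs =>
      intro p a b hab
      have hB : ∀ C₁ : ℕ, C₁ ≤ C' * B d s * 2 ^ d → (C + C' * 2 ^ d) * B (d + 1) s + C₁ ≤
          (C + C' * 2 ^ d) * B (d + 1) (s + 1) := fun C₁ h => by
        calc (C + C' * 2 ^ d) * B (d + 1) s + C₁
            ≤ (C + C' * 2 ^ d) * B (d + 1) s + (C + C' * 2 ^ d) * B d s := by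
              refine Nat.add_le_add_left (h.trans ?_) _
              rw [Nat.mul_right_comm]
              exact Nat.mul_le_mul_right _ (Nat.le_add_left _ _)
          _ ≤ _ := by
              rw [← Nat.mul_add]
              exact Nat.mul_le_mul_left _ (B_add_le d s)
      cases a with
      | succ a =>
        have h1 := (ineqs2 k μ hD (CMRegLib.isCoh_tensor_inv hD hA) hA hR' p a b).2.1
        rw [hh2_left] at h1
        refine h1.trans ((Nat.add_le_add (ihs p a b (by omega)) le_rfl).trans (hB _ ?_))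
        refine (hA' p a b).trans ?_
        rw [show a + b = s by omega]
        exact Nat.le_mul_of_pos_right _ (Nat.two_pow_pos d)
      | zero =>
        obtain ⟨b, rfl⟩ : ∃ c, b = c + 1 := ⟨s, by omega⟩
        have h1 := (ineqs2 k ν hD (CMRegLib.isCoh_tensor_inv hD hR) hA hR' p 0 (b + 1)).1
        rw [hh2_cancel k D A e] at h1
        refine h1.trans ((Nat.add_le_add (ihs p 0 b (by omega)) le_rfl).trans (hB _ ?_))
        refine (hR'' (p - 1) 0 (b + 1)).trans ?_
        rw [show 0 + (b + 1) = s + 1 by omega, Nat.mul_assoc, Nat.mul_comm (B d s)]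
        exact Nat.mul_le_mul_left _ (B_succ_le d s)

/-- The cohomology grows with the dimension, uniformly in the initial bound. -/
theorem family_bound [Infinite k] {A R R' : X.Modules} (hA : PicF.IsInvertible A) (hAg : Curv2.IsGloballyGenerated A)
    (hR : PicF.IsInvertible R) (hRg : Curv2.IsGloballyGenerated R) (hR' : PicF.IsInvertible R')
    (e : CohB1.tensorMod R R' ≅ Coh.structureModule X) :
    ∀ d C : ℕ, ∃ C' : ℕ, ∀ D : X.Modules, Coh.IsCoh D →
      topologicalKrullDim (CohB1.support D) < (d : WithBot ℕ∞) → InitBdd k A R d C D →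
      ∀ p a b, hh2 k D A R' p a b ≤ C' * B d (a + b) :=
  fun d C => ⟨cst d C, family_bound_cst k hA hAg hR hRg hR' e d C⟩

end Groth.Agent.NumBdd
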