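import Groth.Agent.NumBddLib.Ample
import Groth.Agent.NumBddLib.Family
import Groth.Agent.VolLib.MultiLim

/-!
# Numerically trivial twists and the growth of cohomology
-/

set_option autoImplicit false
set_option backward.isDefEq.respectTransparency false
set_option linter.style.haveILetI false

universe u

open CategoryTheory CategoryTheory.Limits AlgebraicGeometry TopologicalSpace
open Groth.Agent.DCohLib Groth.Agent.AmpleLib Groth.Agent.HiGrowth

noncomputable section

namespace Groth.Agent.NumBdd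

variable (k : Type u) [Field k] {X : Scheme.{u}} [X.Over (Spec (CommRingCat.of k))]

theorem hh2_eq (D A R : X.Modules) (p a b : ℕ) :
    hh2 k D A R p a b = hcl k p (IntLib.mk D * IntLib.mk A ^ a * IntLib.mk R ^ b) := by
  rw [← IntLib.mk_tensorPow, ← IntLib.mk_tensorPow, ← IntLib.mk_tensor, ← IntLib.mk_tensor, hcl_mk]
  rfl

variable [IsProper (X ↘ Spec (CommRingCat.of k))]

include k in
/-- A module `L` is a generated module over another, whose powers are uniformly acyclic. -/
theorem exists_split {H L : X.Modules} (hH : CohB1.IsAmple H) (hL : PicF.IsInvertible L) :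
    ∃ A R R' : X.Modules, PicF.IsInvertible A ∧ Curv2.IsGloballyGenerated A ∧ CohB1.IsAmple R ∧
      Curv2.IsGloballyGenerated R ∧ PicF.IsInvertible R' ∧ IntLib.mk R * IntLib.mk R' = 1 ∧
      IntLib.mk L = IntLib.mk A * IntLib.mk R' := by
  haveI := EulerIneqLib.isNoetherian_proper (X := X) k
  obtain ⟨N, hN⟩ := AmpleEmb.eventually_isGloballyGenerated hH (CurveLib.isCoh_of_isInvertible hL)
  obtain ⟨N', hN'⟩ := AmpleEmb.eventually_isGloballyGenerated hH (DevLib.isCoh_structureModule X)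
  set c := N + N' + 1 with hc
  have hR := (isAmple_pow_iff hH.1 (show 0 < c by omega)).2 hH
  obtain ⟨R', hR', ⟨e⟩⟩ := AmpleEmb.exists_isInverseOf hR.1
  have hRR : IntLib.mk (CohB1.tensorPow H c) * IntLib.mk R' = 1 :=
    (IntLib.mk_tensor _ _).symm.trans (IntLib.mk_congr e)
  refine ⟨CohB1.tensorMod L (CohB1.tensorPow H c), CohB1.tensorPow H c, R',
    isInvertible_tensor hL hR.1, hN c (by omega), hR,
    isGloballyGenerated_of_iso (unitL _) (hN' c (by omega)), hR', hRR, ?_⟩
  rw [IntLib.mk_tensor, mul_assoc, hRR, mul_one]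

/-- Uniform comparison with a sectioned module. -/
theorem exists_common_twist [IsIntegral X] {n : ℕ} (hn : topologicalKrullDim X = (n : WithBot ℕ∞)) {A R : X.Modules}
    (hA : PicF.IsInvertible A) (hR : CohB1.IsAmple R) :
    ∃ J C : ℕ, ∀ Q : X.Modules, PicF.IsInvertible Q → Pic13.IsNumEquivZero k X Q →
      ∃ t : Coh.structureModule X ⟶ CohB1.tensorMod Q (CohB1.tensorPow R J), Mono t ∧
        Coh.IsCoh (cokernel t) ∧ topologicalKrullDim (CohB1.support (cokernel t)) < (n : WithBot ℕ∞) ∧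
        InitBdd k A R n C (cokernel t) := by
  classical
  haveI := EulerIneqLib.isNoetherian_proper (X := X) k
  let F : ℕ × ℕ → X.Modules := fun ab =>
    CohB1.tensorMod (CohB1.tensorPow A ab.1) (CohB1.tensorPow R ab.2)
  have hFi : ∀ ab, PicF.IsInvertible (F ab) := fun ab =>
    isInvertible_tensor (isInvertible_tensorPow hA _) (isInvertible_tensorPow hR.1 _)
  choose m₀ hm₀ using fun ab => exists_uniform k hR (CurveLib.isCoh_of_isInvertible (hFi ab))
  let S := Finset.range (n + 1) ×ˢ Finset.range (n + 1)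
  obtain ⟨q₀, hq₀⟩ := Nakai.exists_h_ne_zero k hR (ParaFLib.isInvertible_structureModule (X := X))
  obtain ⟨J, hJ, hJ0, hJq⟩ : ∃ J, (∀ ab ∈ S, m₀ ab ≤ J) ∧ m₀ (0, 0) ≤ J ∧ q₀ ≤ J :=
    ⟨S.sup m₀ + m₀ (0, 0) + q₀, fun ab h => le_trans (Finset.le_sup h) (by omega), by omega, by omega⟩
  -- uniform values
  let g : ℕ × ℕ → X.Modules → ℕ → ℕ := fun ab Q p =>
    hcl k p (IntLib.mk Q * IntLib.mk R ^ J * IntLib.mk A ^ ab.1 * IntLib.mk R ^ ab.2)
  have hg : ∀ ab Q p, g ab Q p = Module.finrank k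
      (Coh.HH X (CohB1.tensorMod (CohB1.tensorMod (F ab) Q) (CohB1.tensorPow R J)) p) := fun ab Q p => by
    show hcl k p _ = _
    rw [← hcl_mk]
    simp only [F, IntLib.mk_tensor, IntLib.mk_tensorPow]
    congr 1
    ac_rfl
  have hunif : ∀ ab, m₀ ab ≤ J → ∀ Q, PicF.IsInvertible Q → Pic13.IsNumEquivZero k X Q →
      ∀ p, g ab Q p = g ab (Coh.structureModule X) p := fun ab hab Q hQ hQn p => by
    rw [hg, hg]
    obtain ⟨hv, he⟩ := hm₀ ab Q hQ hQn J hab
    obtain ⟨hv', he'⟩ := hm₀ ab _ ParaFLib.isInvertible_structureModule (numTriv_unit k) J hab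
    rcases Nat.eq_zero_or_pos p with rfl | hp
    · have h := he.trans he'.symm
      rw [CurveLib.euler_eq_sum (K := k) _ 1 fun q hq => hv q (by omega),
        CurveLib.euler_eq_sum (K := k) _ 1 fun q hq => hv' q (by omega), Finset.sum_range_one, Finset.sum_range_one,
        pow_zero, one_mul, one_mul] at h
      exact_mod_cast h
    · haveI := hv p hp
      haveI := hv' p hp
      rw [Module.finrank_zero_of_subsingleton, Module.finrank_zero_of_subsingleton]
  have hO : ∀ ab : ℕ × ℕ, ∃ C, ∀ p, g ab (Coh.structureModule X) p +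
      hh2 k (Coh.structureModule X) A R (p + 1) ab.1 ab.2 ≤ C := fun ab => by
    obtain ⟨N, hN⟩ := CurveLib.exists_bound (X := X) k
    refine ⟨(Finset.range N).sum fun p => g ab (Coh.structureModule X) p +
      hh2 k (Coh.structureModule X) A R (p + 1) ab.1 ab.2, fun p => ?_⟩
    rcases Nat.lt_or_ge p N with h | h
    · exact Finset.single_le_sum (f := fun p => g ab (Coh.structureModule X) p +
        hh2 k (Coh.structureModule X) A R (p + 1) ab.1 ab.2) (fun _ _ => Nat.zero_le _) (Finset.mem_range.2 h)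
    · have hi : ∀ (M : X.Modules), Coh.IsCoh M → ∀ q, N ≤ q → Module.finrank k (Coh.HH X M q) = 0 := fun M hM q hq => by
        haveI := hN M hM.1 q hq
        exact Module.finrank_zero_of_subsingleton
      rw [hg, hi _ ?_ p h, hh2, hi _ ?_ (p + 1) (by omega)]
      · exact Nat.zero_le _
      · exact CMRegLib.isCoh_tensor_inv (CMRegLib.isCoh_tensor_inv (DevLib.isCoh_structureModule X)
          (isInvertible_tensorPow hA _)) (isInvertible_tensorPow hR.1 _)
      · exact CurveLib.isCoh_of_isInvertible (isInvertible_tensor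
          (isInvertible_tensor (hFi ab) ParaFLib.isInvertible_structureModule) (isInvertible_tensorPow hR.1 _))
  choose C hC using hO
  refine ⟨J, S.sum C, fun Q hQ hQn => ?_⟩
  have hP := isInvertible_tensor hQ (isInvertible_tensorPow hR.1 J)
  have hP0 : VolLib.h k (CohB1.tensorMod Q (CohB1.tensorPow R J)) ≠ 0 := by
    have hgQ : ∀ P : X.Modules, g (0, 0) P 0 = VolLib.h k (CohB1.tensorMod P (CohB1.tensorPow R J)) := fun P => by
      show hcl k 0 (IntLib.mk P * IntLib.mk R ^ J * IntLib.mk A ^ (0 : ℕ) * IntLib.mk R ^ (0 : ℕ)) = _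
      rw [pow_zero, pow_zero, mul_one, mul_one, ← IntLib.mk_tensorPow, ← IntLib.mk_tensor, hcl_mk]
    rw [← hgQ, hunif (0, 0) hJ0 Q hQ hQn 0, hgQ]
    exact hq₀ J hJq
  obtain ⟨t, ht⟩ := exists_section_ne_zero k hP0
  have hO' := DevLib.isCoh_structureModule X
  have hPc := CurveLib.isCoh_of_isInvertible hP
  haveI := CurveLib.mono_of_ne_zero ParaFLib.isInvertible_structureModule hP ht
  have hc := (QCohLib.isCoh_kernel_cokernel t hO' hPc).2
  refine ⟨t, inferInstance, hc, dim_supp_lt hc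
    (CurveLib.genericPoint_notMem_support ParaFLib.isInvertible_structureModule hP ht) hn, fun p a b hab => ?_⟩
  have hS : (a, b) ∈ S := Finset.mem_product.2 ⟨Finset.mem_range.2 (by omega), Finset.mem_range.2 (by omega)⟩
  refine le_trans ?_ (Finset.single_le_sum (f := C) (fun _ _ => Nat.zero_le _) hS)
  refine le_trans ((ineqs2 k t hO' hPc hA hR.1 p a b).2.2) (le_trans (le_of_eq ?_) (hC (a, b) p))
  rw [← hunif (a, b) (hJ _ hS) Q hQ hQn p, hh2_eq, IntLib.mk_tensor, IntLib.mk_tensorPow]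

/-- Twisting by numerically trivial modules changes the cohomology of powers little, uniformly. -/
theorem near_numTriv [Infinite k] [IsIntegral X] {n : ℕ} (hn : topologicalKrullDim X = (n : WithBot ℕ∞))
    {H L : X.Modules} (hH : CohB1.IsAmple H) (hL : PicF.IsInvertible L) (i : ℕ) :
    ∃ C : ℕ, ∀ Q : X.Modules, PicF.IsInvertible Q → Pic13.IsNumEquivZero k X Q → ∀ m : ℕ,
      hcl k i (IntLib.mk L ^ m * IntLib.mk Q) ≤ hcl k i (IntLib.mk L ^ m) + C * B n m ∧
        hcl k i (IntLib.mk L ^ m) ≤ hcl k i (IntLib.mk L ^ m * IntLib.mk Q) + C * B n m := by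
  haveI := EulerIneqLib.isNoetherian_proper (X := X) k
  obtain ⟨A, R, R', hA, hAg, hR, hRg, hR', hRR, hLA⟩ := exists_split k hH hL
  obtain ⟨J, C, hJ⟩ := exists_common_twist k hn hA hR
  obtain ⟨e⟩ := IntLib.mk_eq_mk.1 ((IntLib.mk_tensor R R').trans (hRR.trans IntLib.mk_structureModule.symm))
  obtain ⟨C', hC'⟩ := family_bound k hA hAg hR.1 hRg hR' e n C
  have key : ∀ Q : X.Modules, PicF.IsInvertible Q → Pic13.IsNumEquivZero k X Q → ∀ m : ℕ,
      hcl k i (IntLib.mk L ^ m * IntLib.mk Q) ≤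
          hh2 k (Coh.structureModule X) A R' i m (m + J) + C' * B n (m + (m + J)) ∧
        hh2 k (Coh.structureModule X) A R' i m (m + J) ≤
          hcl k i (IntLib.mk L ^ m * IntLib.mk Q) + C' * B n (m + (m + J)) := fun Q hQ hQn m => by
    obtain ⟨t, ht, hc, hd, hI⟩ := hJ Q hQ hQn
    haveI := ht
    have hb := hC' _ hc hd hI
    obtain ⟨h1, h2, -⟩ := ineqs2 k t (DevLib.isCoh_structureModule X)
      (CurveLib.isCoh_of_isInvertible (isInvertible_tensor hQ (isInvertible_tensorPow hR.1 J))) hA hR' i m (m + J)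
    have e1 : hh2 k (CohB1.tensorMod Q (CohB1.tensorPow R J)) A R' i m (m + J) =
        hcl k i (IntLib.mk L ^ m * IntLib.mk Q) := by
      rw [hh2_eq, IntLib.mk_tensor, IntLib.mk_tensorPow, hLA, mul_pow, pow_add]
      congr 1
      calc IntLib.mk Q * IntLib.mk R ^ J * IntLib.mk A ^ m * (IntLib.mk R' ^ m * IntLib.mk R' ^ J)
          = IntLib.mk A ^ m * IntLib.mk R' ^ m * IntLib.mk Q * (IntLib.mk R * IntLib.mk R') ^ J := by
            rw [mul_pow]; ac_rfl
        _ = _ := by rw [hRR, one_pow, mul_one]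
    rw [e1] at h1 h2
    have := hb i m (m + J)
    have := hb (i - 1) m (m + J)
    constructor <;> omega
  refine ⟨2 * C' * (2 ^ n * (J + 2) ^ n), fun Q hQ hQn m => ?_⟩
  have a := key Q hQ hQn m
  have b := key _ ParaFLib.isInvertible_structureModule (numTriv_unit k) m
  rw [IntLib.mk_structureModule, mul_one] at b
  have hB : B n (m + (m + J)) ≤ 2 ^ n * (J + 2) ^ n * B n m := by
    cases n with
    | zero => simp [B]
    | succ j =>
      show (m + (m + J) + 1) ^ j ≤ 2 ^ (j + 1) * (J + 2) ^ (j + 1) * (m + 1) ^ j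
      calc (m + (m + J) + 1) ^ j ≤ (2 * (J + 2) * (m + 1)) ^ j := Nat.pow_le_pow_left (by nlinarith) j
        _ = 2 ^ j * (J + 2) ^ j * (m + 1) ^ j := by rw [mul_pow, mul_pow]
        _ ≤ _ := Nat.mul_le_mul_right _ (Nat.mul_le_mul (Nat.pow_le_pow_right (by omega) j.le_succ)
            (Nat.pow_le_pow_right (by omega) j.le_succ))
  have h2 : 2 * (C' * B n (m + (m + J))) ≤ 2 * C' * (2 ^ n * (J + 2) ^ n) * B n m := by
    rw [← Nat.mul_assoc, Nat.mul_assoc (2 * C')]
    exact Nat.mul_le_mul_left _ hB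
  constructor <;> omega

end Groth.Agent.NumBdd
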