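import Groth.Agent.IntLib.Divisor
import Groth.Agent.S1658
import Groth.Agent.DimFormulaLib.Field
import Groth.Agent.FlatDim.Trdeg

/-!
# The dimension of an effective Cartier divisor on a variety
-/

set_option autoImplicit false
set_option backward.isDefEq.respectTransparency false
set_option linter.style.haveILetI false

universe u

open CategoryTheory CategoryTheory.Limits AlgebraicGeometry TopologicalSpace
open Groth.Agent.DimFormulaLib

noncomputable section

namespace Groth.Agent.NumBdd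

/-- A point of an effective Cartier ideal with local ring of dimension at most one. -/
theorem exists_mem_support_dim_le_one {X : Scheme.{u}} [IsLocallyNoetherian X] {D : X.IdealSheafData}
    (hD : BlowUp.IsEffCartierIdeal D) {x : X} (hx : x ∈ D.support) :
    ∃ y : X, y ∈ D.support ∧ ringKrullDim (X.presheaf.stalk y) ≤ 1 := by
  obtain ⟨U, hxU, f, -, hfU⟩ := hD x
  have hmem : ∀ p : PrimeSpectrum Γ(X, U.1), U.2.fromSpec p ∈ D.support ↔ f ∈ p.asIdeal := fun p => by
    have h : U.2.fromSpec p ∈ U.1 := U.2.range_fromSpec.le ⟨p, rfl⟩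
    rw [Scheme.IdealSheafData.mem_support_iff_of_mem h, hfU, Scheme.zeroLocus_span, ← Set.mem_preimage,
      U.2.fromSpec_preimage_zeroLocus, PrimeSpectrum.mem_zeroLocus, Set.singleton_subset_iff, SetLike.mem_coe]
  have hxp : U.2.fromSpec (U.2.primeIdealOf ⟨x, hxU⟩) = x := U.2.fromSpec_primeIdealOf ⟨x, hxU⟩
  have hfx : f ∈ (U.2.primeIdealOf ⟨x, hxU⟩).asIdeal := (hmem _).1 (hxp.symm ▸ hx)
  haveI : IsNoetherianRing Γ(X, U.1) := IsLocallyNoetherian.component_noetherian U
  obtain ⟨q, hq, -⟩ := Ideal.exists_minimalPrimes_le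
    ((Ideal.span_singleton_le_iff_mem _).2 hfx : Ideal.span {f} ≤ _)
  haveI := hq.1.1
  let p : PrimeSpectrum Γ(X, U.1) := ⟨q, hq.1.1⟩
  refine ⟨U.2.fromSpec p, (hmem p).2 (hq.1.2 (Ideal.mem_span_singleton_self f)), ?_⟩
  haveI : q.FiniteHeight := ⟨Or.inr (ne_top_of_le_ne_top (by simp)
    (Ideal.height_le_one_of_isPrincipal_of_mem_minimalPrimes (Ideal.span {f}) q hq))⟩
  have hy : U.2.fromSpec p ∈ U.1 := U.2.range_fromSpec.le ⟨p, rfl⟩
  letI : Algebra Γ(X, U.1) (X.presheaf.stalk (U.2.fromSpec p)) := (X.presheaf.germ U.1 _ hy).hom.toAlgebra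
  haveI : IsLocalization.AtPrime (X.presheaf.stalk (U.2.fromSpec p)) (U.2.primeIdealOf ⟨_, hy⟩).asIdeal :=
    U.2.isLocalization_stalk ⟨_, hy⟩
  rw [IsLocalization.AtPrime.ringKrullDim_eq_height (U.2.primeIdealOf ⟨_, hy⟩).asIdeal]
  have e : U.2.primeIdealOf ⟨_, hy⟩ = p := U.2.fromSpec.isOpenEmbedding.injective (U.2.fromSpec_primeIdealOf ⟨_, hy⟩)
  rw [e]
  exact_mod_cast Ideal.height_le_one_of_isPrincipal_of_mem_minimalPrimes (Ideal.span {f}) q hq

/-- A nonempty effective Cartier divisor on a variety has dimension one less. -/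
theorem not_dim_support_lt (k : Type u) [Field k] {X : Scheme.{u}} [IsIntegral X] (q : X ⟶ Spec (CommRingCat.of k))
    [LocallyOfFiniteType q] {s : ℕ} (hdim : topologicalKrullDim X = ((s + 1 : ℕ) : WithBot ℕ∞))
    {D : X.IdealSheafData} (hD : BlowUp.IsEffCartierIdeal D) {x : X} (hx : x ∈ D.support) :
    ¬ topologicalKrullDim (D.support : Set X) < (s : WithBot ℕ∞) := by
  haveI : IsLocallyNoetherian X := LocallyOfFiniteType.isLocallyNoetherian q
  obtain ⟨y, hy, hy1⟩ := exists_mem_support_dim_le_one hD hx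
  obtain ⟨a, t, ha, -, hloc, hh⟩ := field_dims q y
  have hl : FlatMor.localDim ↥X y = ((s + 1 : ℕ) : WithBot ℕ∞) := by
    refine le_antisymm ?_ ?_
    · exact (iInf_le _ ⟨⊤, trivial⟩).trans
        (Topology.IsInducing.subtypeVal.topologicalKrullDim_le.trans hdim.le)
    · refine le_iInf fun U => (hdim.symm.trans (topologicalKrullDim_opens q U.1 ⟨y, U.2⟩).symm).le
  have hat : a + t = s + 1 := by exact_mod_cast hloc.symm.trans hl
  have ha1 : a ≤ 1 := by
    rw [ha] at hy1
    exact_mod_cast hy1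
  intro hlt
  have hc := lt_of_le_of_lt (Topology.IsEmbedding.inclusion (closure_minimal (Set.singleton_subset_iff.2 hy)
    D.support.isClosed)).isInducing.topologicalKrullDim_le hlt
  rw [topologicalKrullDim_closure_singleton, hh] at hc
  have : t < s := by exact_mod_cast hc
  omega

/-- The divisor of a section of an invertible module on a variety. -/
theorem exists_divisor_of_genLocus {X : Scheme.{u}} [IsNoetherian X] [IsIntegral X] {L : X.Modules} (hL : PicF.IsInvertible L)
    (s : Coh.structureModule X ⟶ L) (hs : (CohB1.genLocus L s : Set X).Nonempty) :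
    ∃ D : X.IdealSheafData, FGA.IsEffCartier D ∧ Nonempty (CohB1.tensorMod L (ClSub.idealMod D) ≅ Coh.structureModule X) := by
  choose U hU hxU _ using fun x : X => exists_isAffineOpen_mem_and_subset (U := (⊤ : X.Opens)) (x := x) trivial
  obtain ⟨D, hD, -, hiso⟩ := S1658.exists_effCartier_of_section hL U hU (fun x => ⟨x, hxU x⟩) s fun i p hp => by
    haveI : Nonempty ↥(U i) := ⟨⟨i, hxU i⟩⟩
    haveI : Nonempty ↥((U i : Set X)) := ⟨⟨i, hxU i⟩⟩
    haveI : IsDomain Γ(X, U i) := @IsIntegral.component_integral X _ (U i) ⟨⟨i, hxU i⟩⟩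
    have hbot : p.asIdeal = ⊥ := by
      obtain ⟨-, m, hm⟩ := hp
      refine le_bot_iff.1 fun a ha => ?_
      rw [hm] at ha
      by_cases hm0 : m = 0
      · subst hm0
        exact absurd ((Ideal.eq_top_iff_one _).2 (by rw [hm]; exact Ideal.le_radical (by simp))) p.isPrime.ne_top
      · obtain ⟨n, hn⟩ := Ideal.mem_radical_iff.1 ha
        have h2 : a ^ n * m = 0 := by simpa using hn
        exact pow_eq_zero_iff'.1 ((mul_eq_zero.1 h2).resolve_right hm0) |>.1
    obtain ⟨y, hyG, hyU⟩ := nonempty_preirreducible_inter (CohB1.genLocus L s).2 (U i).2 hs ⟨i, hxU i⟩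
    obtain ⟨q, rfl⟩ : ∃ q, (hU i).fromSpec q = y := by
      have h : y ∈ Set.range (hU i).fromSpec := by rw [(hU i).range_fromSpec]; exact hyU
      exact h
    have hspec : p ⤳ q := (PrimeSpectrum.le_iff_specializes p q).1 (show p.asIdeal ≤ q.asIdeal by rw [hbot]; exact bot_le)
    exact ((hspec.map (hU i).fromSpec.continuous).mem_open (CohB1.genLocus L s).2 hyG)
  exact ⟨D, hD, hiso⟩


end Groth.Agent.NumBdd
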