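import Groth.Agent.BCLib.Local
import Groth.Agent.GenBCLib.Betti
import Groth.Agent.HilbStratLib.Finite
import Groth.Agent.RpushLib.Finite
import Groth.Agent.S1455

/-!
# Fibre cohomology of a coherent module is bounded over a Noetherian base
-/

set_option autoImplicit false
set_option backward.isDefEq.respectTransparency false
set_option linter.style.haveILetI false

universe u

open CategoryTheory CategoryTheory.Limits AlgebraicGeometry TopologicalSpace

noncomputable section

namespace Groth.Agent.NumBdd

theorem lfp_of_noetherian {U V : Scheme.{u}} (f : U ⟶ V) [LocallyOfFiniteType f] [IsLocallyNoetherian V] :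
    LocallyOfFinitePresentation f := by
  rw [HasRingHomProperty.iff_appLE (P := @LocallyOfFinitePresentation)]
  intro W E e
  haveI : IsNoetherianRing ↥Γ(V, W) := IsLocallyNoetherian.component_noetherian W
  exact RingHom.FinitePresentation.of_finiteType.1
    (HasRingHomProperty.appLE (P := @LocallyOfFiniteType) f ‹_› W E e)

variable {X T : Scheme.{u}}

/-- Fibre cohomology is bounded. -/
theorem exists_bound_fiberRank [IsNoetherian T] (f : X ⟶ T) [IsProper f] {M : X.Modules} (hM : Coh.IsCoh M) (p : ℕ) :
    ∃ C : ℕ, ∀ t : T, CohIII.fiberRank f M p t ≤ C := by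
  classical
  haveI := lfp_of_noetherian f
  haveI : IsLocallyNoetherian X := LocallyOfFiniteType.isLocallyNoetherian f
  haveI := hM.1
  obtain ⟨s, I, -, htop, h0, -, hfl⟩ := S1455.result f M hM.1 (QCohLib.isFP_of_isCoh M hM)
  let Z := fun i : Fin s => (I i.castSucc).subschemeι ⁻¹ᵁ (I i.succ).support.compl
  let k := fun i : Fin s => (Z i).ι ≫ (I i.castSucc).subschemeι
  have hloc : ∀ i, ∃ C : ℕ, ∀ z, CohIII.fiberRank f M p (k i z) ≤ C := by
    intro i
    haveI : IsLocallyNoetherian (I i.castSucc).subscheme :=
      LocallyOfFiniteType.isLocallyNoetherian (I i.castSucc).subschemeι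
    haveI : CompactSpace (I i.castSucc).subscheme :=
      QuasiCompact.compactSpace_of_compactSpace (I i.castSucc).subschemeι
    haveI : IsNoetherian (I i.castSucc).subscheme := ⟨⟩
    haveI : CompactSpace (Z i : Scheme.{u}) :=
      isCompact_iff_compactSpace.1 (TopologicalSpace.NoetherianSpace.isCompact _)
    haveI : IsLocallyNoetherian (Z i : Scheme.{u}) := LocallyOfFiniteType.isLocallyNoetherian (k i)
    let f' := pullback.snd f (k i)
    haveI : IsLocallyNoetherian (pullback f (k i)) := LocallyOfFiniteType.isLocallyNoetherian f'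
    have hG : Coh.IsCoh ((Scheme.Modules.pullback (pullback.fst f (k i))).obj M) :=
      PullbackMod.isCoh_pullback _ M hM
    haveI := hG.1
    obtain ⟨S, hS⟩ := isCompact_univ.elim_finite_subcover
      (fun n : ℕ => {z | CohIII.fiberRank f' ((Scheme.Modules.pullback (pullback.fst f (k i))).obj M) p z < n})
      (fun n => GenBCLib.isOpen_fiberRank_lt (QCohLib.isFP_of_isCoh _ hG) (hfl i) p n)
      (fun z _ => Set.mem_iUnion.2 ⟨_, Nat.lt_succ_self _⟩)
    refine ⟨S.sup id, fun z => ?_⟩
    obtain ⟨n, hn, hz⟩ := Set.mem_iUnion₂.1 (hS (Set.mem_univ z))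
    have hz' : CohIII.fiberRank f' ((Scheme.Modules.pullback (pullback.fst f (k i))).obj M) p z < n := hz
    rw [BCLib.fiberRank_baseChange (IsPullback.of_hasPullback f (k i)) M p z] at hz'
    exact hz'.le.trans (Finset.le_sup (f := id) hn)
  choose C hC using hloc
  refine ⟨Finset.univ.sup C, fun y => ?_⟩
  obtain ⟨i, hi, hi'⟩ := HilbStratLib.exists_step (fun i => ((I i).support : Set T)) y
    (by show y ∈ ((I 0).support : Set T); rw [h0]; trivial)
    (by show y ∉ ((I (Fin.last s)).support : Set T); simp [htop])
  obtain ⟨w, hw⟩ : y ∈ Set.range (I i.castSucc).subschemeι := by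
    rw [Scheme.IdealSheafData.range_subschemeι]; exact hi
  subst hw
  exact (hC i ⟨w, hi'⟩).trans (Finset.le_sup (f := C) (Finset.mem_univ i))

end Groth.Agent.NumBdd
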