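import Groth.Agent.NumBddLib.Compare
import Groth.Agent.NumBddLib.FibreBound
import Groth.Agent.JacLib.Deg
import Groth.Agent.EtAlgEasy.MorFibre
import Groth.Agent.CdFieldLib.FibreBound
import Groth.Agent.RelVALib.EmbGen

/-!
# Uniform growth of fibre cohomology
-/

set_option autoImplicit false
set_option backward.isDefEq.respectTransparency false
set_option linter.style.haveILetI false

universe u

open CategoryTheory CategoryTheory.Limits AlgebraicGeometry TopologicalSpace
open Groth.Agent.DCohLib Groth.Agent.AmpleLib Groth.Agent.HiGrowth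

noncomputable section

namespace Groth.Agent.NumBdd

/-- Inverse images of generated invertible modules are generated. -/
theorem gg_pullback {X Y : Scheme.{u}} (g : Y ⟶ X) {P : X.Modules} (hP : PicF.IsInvertible P)
    (h : Curv2.IsGloballyGenerated P) : Curv2.IsGloballyGenerated ((Scheme.Modules.pullback g).obj P) := by
  choose t ht using fun y : Y => exists_genLocus_of_isGloballyGenerated hP h (g y)
  exact AmpleEmb.isGloballyGenerated_of_genLocus (isInvertible_pullback g hP) (fun y => RelVALib.pullSec g (t y))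
    fun y => ⟨y, (RelVALib.genLocus_pullSec g hP (t y)).ge (ht y)⟩

theorem mk_pullPow {X Y : Scheme.{u}} (g : Y ⟶ X) (P : X.Modules) (m : ℕ) :
    IntLib.mk ((Scheme.Modules.pullback g).obj (CohB1.tensorPow P m)) =
      IntLib.mk ((Scheme.Modules.pullback g).obj P) ^ m :=
  (IntLib.mk_congr (pullPow g P m)).trans (IntLib.mk_tensorPow _ m)

theorem mk_pullTensor {X Y : Scheme.{u}} (g : Y ⟶ X) (P Q : X.Modules) :
    IntLib.mk ((Scheme.Modules.pullback g).obj (CohB1.tensorMod P Q)) =
      IntLib.mk ((Scheme.Modules.pullback g).obj P) * IntLib.mk ((Scheme.Modules.pullback g).obj Q) :=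
  (IntLib.mk_congr (pullTensor g P Q)).trans (IntLib.mk_tensor _ _)

theorem exists_geometric_point {T : Scheme.{u}} (t : T) :
    ∃ (K : Type u) (_ : Field K) (_ : Infinite K) (h : Spec (CommRingCat.of K) ⟶ T),
      ∀ x, h x = t := by
  letI := T.residueField t |>.commRing
  refine ⟨AlgebraicClosure (T.residueField t), inferInstance, inferInstance,
    Spec.map (CommRingCat.ofHom (algebraMap (T.residueField t) (AlgebraicClosure (T.residueField t)))) ≫
      T.fromSpecResidueField t, fun x => ?_⟩
  rw [Scheme.Hom.comp_apply]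
  exact Scheme.fromSpecResidueField_apply t _

theorem dim_pullback_point {T X : Scheme.{u}} (f : X ⟶ T) [LocallyOfFiniteType f] {L : Type u} [Field L]
    (h : Spec (CommRingCat.of L) ⟶ T) {t : T} (ht : h (IsLocalRing.closedPoint L) = t) :
    topologicalKrullDim ↥(pullback f h) = topologicalKrullDim ↥(f.fiber t) := by
  subst ht
  let ψ := Spec.map (T.descResidueField (Scheme.stalkClosedPointTo h))
  have e : ψ ≫ T.fromSpecResidueField (h (IsLocalRing.closedPoint L)) = h :=
    Scheme.descResidueField_stalkClosedPointTo_fromSpecResidueField L T h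
  let l : pullback f h ⟶ pullback f (T.fromSpecResidueField (h (IsLocalRing.closedPoint L))) :=
    pullback.lift (pullback.fst f h) (pullback.snd f h ≫ ψ) (by rw [Category.assoc, e, pullback.condition])
  have sq : IsPullback l (pullback.snd f h) (pullback.snd f (T.fromSpecResidueField _)) ψ :=
    IsPullback.of_right (by rw [pullback.lift_fst, e]; exact IsPullback.of_hasPullback f h)
      (pullback.lift_snd _ _ _) (IsPullback.of_hasPullback f _)
  exact EtAlgEasy.MorFibre.topologicalKrullDim_baseChange sq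

variable {X T : Scheme.{u}}

/-- Uniform growth of the fibre cohomology of the powers of an invertible module. -/
theorem fibre_growth [IsNoetherian T] (f : X ⟶ T) [IsProper f] {F A L L' : X.Modules} (hF : Coh.IsCoh F)
    (hA : PicF.IsInvertible A) (hAg : Curv2.IsGloballyGenerated A) (hL : PicF.IsInvertible L)
    (hL' : PicF.IsInvertible L') (e : CohB1.tensorMod L L' ≅ Coh.structureModule X) (s : ℕ)
    (hgg : ∀ t : T, ∃ V : T.Opens, t ∈ V ∧ Curv2.IsGloballyGenerated
      ((Scheme.Modules.pullback (f ⁻¹ᵁ V).ι).obj (CohB1.tensorMod (CohB1.tensorPow A s) L'))) :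
    ∃ C : ℕ, ∀ (t : T) (d : ℕ), topologicalKrullDim ↥(f.fiber t) = (d : WithBot ℕ∞) → ∀ (m p : ℕ),
      CohIII.fiberRank f (CohB1.tensorMod F (CohB1.tensorPow L m)) p t ≤ C * (s * m + m + 1) ^ d := by
  classical
  haveI : IsLocallyNoetherian X := LocallyOfFiniteType.isLocallyNoetherian f
  haveI : CompactSpace X := QuasiCompact.compactSpace_of_compactSpace f
  obtain ⟨N, hN⟩ := CdFieldLib.exists_fibre_dim_le f
  set R := CohB1.tensorMod (CohB1.tensorPow A s) L' with hRdef
  have hR : PicF.IsInvertible R := isInvertible_tensor (isInvertible_tensorPow hA s) hL'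
  have hcoh : ∀ a b : ℕ, Coh.IsCoh (CohB1.tensorMod (CohB1.tensorMod F (CohB1.tensorPow A a)) (CohB1.tensorPow R b)) :=
    fun a b => HilbLib.isCoh_twist hR (HilbLib.isCoh_twist hA hF a) b
  choose C₁ hC₁ using fun x : ℕ × ℕ × ℕ => exists_bound_fiberRank f (hcoh x.2.1 x.2.2) x.1
  let S := Finset.range (N + 1) ×ˢ Finset.range (N + 2) ×ˢ Finset.range (N + 2)
  refine ⟨(Finset.range (N + 1)).sup fun d => cst (d + 1) (S.sup C₁), fun t d hd m p => ?_⟩
  obtain ⟨K, _, _, h, hh⟩ := exists_geometric_point t
  let f' := pullback.snd f h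
  let g := pullback.fst f h
  letI : (pullback f h).Over (Spec (CommRingCat.of K)) := ⟨f'⟩
  haveI : IsProper (pullback f h ↘ Spec (CommRingCat.of K)) := MorphismProperty.pullback_snd f h inferInstance
  haveI := EulerIneqLib.isNoetherian_proper (X := pullback f h) K
  haveI : IsProper f' := MorphismProperty.pullback_snd f h inferInstance
  have hrank : ∀ (M : X.Modules), Coh.IsCoh M → ∀ p, CohIII.fiberRank f M p t =
      Module.finrank K (Coh.HH (pullback f h) ((Scheme.Modules.pullback g).obj M) p) := fun M hM p => by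
    haveI := hM.1
    haveI : Coh.IsQCoh ((Scheme.Modules.pullback g).obj M) := PullbackMod.isQCoh_pullback _ M
    rw [← hh (IsLocalRing.closedPoint K), ← BCLib.fiberRank_baseChange (IsPullback.of_hasPullback f h) M p,
      ← JacLib.fiberRank_eq_finrank (k := K) (X := pullback f h)]
    rfl
  have hdK : topologicalKrullDim ↥(pullback f h) = (d : WithBot ℕ∞) :=
    (dim_pullback_point f h (hh _)).trans hd
  have hdN : d ≤ N := by
    have := hd ▸ hN t
    exact_mod_cast this
  obtain ⟨V, htV, hV⟩ := hgg t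
  have hrange : Set.range g ⊆ Set.range (f ⁻¹ᵁ V).ι := by
    rintro _ ⟨x, rfl⟩
    rw [Scheme.Opens.range_ι]
    show (g ≫ f) x ∈ V
    rw [pullback.condition, Scheme.Hom.comp_apply, hh]
    exact htV
  let g₀ := IsOpenImmersion.lift (f ⁻¹ᵁ V).ι g hrange
  have hg₀ : g₀ ≫ (f ⁻¹ᵁ V).ι = g := IsOpenImmersion.lift_fac _ _ _
  let A' := (Scheme.Modules.pullback g).obj A
  let R₁ := (Scheme.Modules.pullback g).obj R
  let D := (Scheme.Modules.pullback g).obj F
  have hA' : PicF.IsInvertible A' := isInvertible_pullback g hA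
  have hR₁ : PicF.IsInvertible R₁ := isInvertible_pullback g hR
  have hR₁g : Curv2.IsGloballyGenerated R₁ :=
    isGloballyGenerated_of_iso ((Scheme.Modules.pullbackComp g₀ _).app R ≪≫
      (Scheme.Modules.pullbackCongr hg₀).app R) (gg_pullback g₀ (isInvertible_pullback _ hR) hV)
  have hD : Coh.IsCoh D := PullbackMod.isCoh_pullback g F hF
  obtain ⟨R₂, hR₂, ⟨e₂⟩⟩ := AmpleEmb.exists_isInverseOf hR₁
  have hsupp : topologicalKrullDim (CohB1.support D) < ((d + 1 : ℕ) : WithBot ℕ∞) :=
    lt_of_le_of_lt (Topology.IsInducing.subtypeVal.topologicalKrullDim_le.trans hdK.le)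
      (by exact_mod_cast Nat.lt_succ_self d)
  have hinit : InitBdd K A' R₁ (d + 1) (S.sup C₁) D := fun p a b hab => by
    rw [hh2_eq]
    rcases le_or_gt p d with hp | hp
    · have hmem : (p, a, b) ∈ S := Finset.mem_product.2
        ⟨Finset.mem_range.2 (show p < N + 1 by omega), Finset.mem_product.2
          ⟨Finset.mem_range.2 (show a < N + 2 by omega), Finset.mem_range.2 (show b < N + 2 by omega)⟩⟩
      refine le_of_eq_of_le ?_ ((hC₁ (p, a, b) t).trans (Finset.le_sup (f := C₁) hmem))
      show _ = CohIII.fiberRank f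
        (CohB1.tensorMod (CohB1.tensorMod F (CohB1.tensorPow A a)) (CohB1.tensorPow R b)) p t
      rw [hrank _ (hcoh a b), ← hcl_mk, mk_pullTensor g (CohB1.tensorMod F (CohB1.tensorPow A a)), mk_pullTensor g F,
        mk_pullPow, mk_pullPow]
    · rw [← IntLib.mk_tensorPow, ← IntLib.mk_tensorPow, ← IntLib.mk_tensor, ← IntLib.mk_tensor, hcl_mk]
      haveI := CurveLib.subsingleton_HH_of_dim (CohB1.tensorMod (CohB1.tensorMod D (CohB1.tensorPow A' a))
        (CohB1.tensorPow R₁ b)) hdK.le hp
      rw [Module.finrank_zero_of_subsingleton]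
      exact Nat.zero_le _
  have hb := family_bound_cst K hA' (gg_pullback g hA hAg) hR₁ hR₁g hR₂ e₂ (d + 1) (S.sup C₁) D hD hsupp hinit
    p (s * m) m
  have hRR : IntLib.mk R₁ * IntLib.mk R₂ = 1 := (IntLib.mk_tensor _ _).symm.trans (IntLib.mk_congr e₂)
  have hLL : IntLib.mk ((Scheme.Modules.pullback g).obj L) * IntLib.mk ((Scheme.Modules.pullback g).obj L') = 1 :=
    (mk_pullTensor g L L').symm.trans ((IntLib.mk_congr ((Scheme.Modules.pullback g).mapIso e ≪≫ pullO g)).trans rfl)
  have hR₁eq : IntLib.mk R₁ = IntLib.mk A' ^ s * IntLib.mk ((Scheme.Modules.pullback g).obj L') :=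
    (mk_pullTensor g _ _).trans (by rw [mk_pullPow])
  have hLA : IntLib.mk ((Scheme.Modules.pullback g).obj L) = IntLib.mk A' ^ s * IntLib.mk R₂ := by
    calc IntLib.mk ((Scheme.Modules.pullback g).obj L)
        = IntLib.mk ((Scheme.Modules.pullback g).obj L) * (IntLib.mk R₁ * IntLib.mk R₂) := by rw [hRR, mul_one]
      _ = (IntLib.mk ((Scheme.Modules.pullback g).obj L) * IntLib.mk ((Scheme.Modules.pullback g).obj L')) *
          (IntLib.mk A' ^ s * IntLib.mk R₂) := by rw [hR₁eq]; ac_rfl
      _ = _ := by rw [hLL, one_mul]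
  rw [hh2_eq, pow_mul, mul_assoc, ← mul_pow, ← hLA, ← mk_pullPow, ← mk_pullTensor, hcl_mk,
    ← hrank (CohB1.tensorMod F (CohB1.tensorPow L m)) (HilbLib.isCoh_twist hL hF m)] at hb
  exact hb.trans (Nat.mul_le_mul_right _ (Finset.le_sup (f := fun d => cst (d + 1) (S.sup C₁))
    (Finset.mem_range.2 (by omega))))

end Groth.Agent.NumBdd
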