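import Groth.Agent.NumBddLib.Res

/-!
# Numerically trivial twists on an integral scheme
-/

set_option autoImplicit false
set_option backward.isDefEq.respectTransparency false
set_option linter.style.haveILetI false

universe u

open CategoryTheory CategoryTheory.Limits AlgebraicGeometry TopologicalSpace
open Groth.Agent.DCohLib Groth.Agent.AmpleLib Groth.Agent.PullbackMod

noncomputable section

namespace Groth.Agent.NumBdd

variable (k : Type u) [Field k] {n : ℕ} {X : Scheme.{u}} (i : X ⟶ CohB1.ProjSpace n k)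

/-- The twisting module of degree zero. -/
def oZero : (Scheme.Modules.pullback i).obj (Twist.twistProjSpace n k 0) ≅ Coh.structureModule X :=
  (Scheme.Modules.pullback i).mapIso (asIso (ProjCoh.unitToTwist (CohB1.polyGrading n k))).symm ≪≫ pullO i

/-- The zeroth twist. -/
def twistZero (M : X.Modules) : Pic13.twistOn k i M 0 ≅ M := tIso (Iso.refl M) (oZero k i) ≪≫ unitR M

/-- Pulling a twist out of the twisted structure sheaf. -/
def stepIso {A : X.Modules} (eA : A ≅ Pic13.twistOn k i (Coh.structureModule X) (-1)) (Q : X.Modules) :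
    CohB1.tensorMod A Q ≅ Pic13.twistOn k i (CohB1.tensorMod (Coh.structureModule X) Q) (-1) :=
  tIso eA (Iso.refl _) ≪≫
    AmpleLib.assoc _ _ _ ≪≫ tIso (Iso.refl _) (comm _ Q) ≪≫ (AmpleLib.assoc _ _ _).symm

/-- The twisted sections of a twist. -/
def stepIso' {A : X.Modules} (eA : A ≅ Pic13.twistOn k i (Coh.structureModule X) (-1)) (Q : X.Modules) (j : ℤ) :
    T k i A Q j ≅ T k i (Coh.structureModule X) Q (j - 1) :=
  tIso (stepIso k i eA Q) (Iso.refl _) ≪≫ CMRegLib.xMulIso k i _ (show -1 + j = j - 1 by ring)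

/-- A twist of a tensor product. -/
def swapIso (Q Q' : X.Modules) (a : ℤ) :
    T k i (T k i (Coh.structureModule X) Q' a) Q 0 ≅ T k i (Coh.structureModule X) (CohB1.tensorMod Q' Q) a :=
  twistZero k i _ ≪≫ AmpleLib.assoc _ _ _ ≪≫ tIso (Iso.refl _) (comm _ Q) ≪≫ (AmpleLib.assoc _ _ _).symm ≪≫
    tIso (AmpleLib.assoc _ _ _) (Iso.refl _)

variable [X.Over (Spec (CommRingCat.of k))] [IsProper (X ↘ Spec (CommRingCat.of k))] [IsIntegral X]

theorem exists_section_ne_zero {P : X.Modules} (h : VolLib.h k P ≠ 0) :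
    ∃ t : Coh.structureModule X ⟶ P, t ≠ 0 := by
  haveI : Nontrivial (Coh.HH X P 0) := by
    by_contra hn
    haveI := not_nontrivial_iff_subsingleton.1 hn
    exact h Module.finrank_zero_of_subsingleton
  obtain ⟨w, hw⟩ := exists_ne (0 : Coh.HH X P 0)
  refine ⟨secHom P (CurveLib.secOf P w), fun h0 => hw ((CurveLib.secOf P).injective ?_)⟩
  rw [map_zero, ← sec_secHom (CurveLib.secOf P w), h0]
  rfl

/-- Sections at `-1`. -/
theorem exists_h_neg_one {d : ℕ} (hd : topologicalKrullDim X = (d : WithBot ℕ∞)) [IsClosedImmersion i] :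
    ∃ C : ℕ, ∀ Q : X.Modules, PicF.IsInvertible Q → Pic13.IsNumEquivZero k X Q →
      VolLib.h k (T k i (Coh.structureModule X) Q (-1)) ≤ C := by
  haveI := EulerIneqLib.isNoetherian_proper (X := X) k
  refine ⟨VolLib.h k (Coh.structureModule X), fun Q hQ hn => ?_⟩
  set W := T k i (Coh.structureModule X) Q (-1)
  have hW : PicF.IsInvertible W :=
    isInvertible_tensor (isInvertible_tensor ParaFLib.isInvertible_structureModule hQ) (isInvertible_xO k i _)
  rcases Nat.eq_zero_or_pos d with rfl | hd0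
  · have hamp : CohB1.IsAmple (Coh.structureModule X) :=
      Nakai.isAmple_of_dim_zero k ParaFLib.isInvertible_structureModule (le_of_eq (hd.trans (by simp)))
    obtain ⟨W', hW', ⟨e⟩⟩ := AmpleEmb.exists_isInverseOf hW
    obtain ⟨q, hq⟩ := Nakai.exists_h_ne_zero k hamp hW'
    refine (VolLib.h_le_tensor k hW hW' ?_).trans_eq (VolLib.h_congr k e)
    rw [← VolLib.h_congr k (tIso (Iso.refl W') (powUnit q) ≪≫ unitR W')]
    exact hq q le_rfl
  · have hL : CohB1.IsAmple ((Scheme.Modules.pullback i).obj (Twist.twistProjSpace n k 1)) :=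
      isAmple_pullback i (AmpleEmb.isAmple_twistOne n k)
    obtain ⟨Q', hQ', ⟨e⟩⟩ := AmpleEmb.exists_isInverseOf hQ
    have hA := HiGrowth.isAmple_nef_twist k hQ' hL (HiGrowth.nefP_inverse k hQ hQ' e hn) 1
    refine le_of_eq_of_le (h_inverse_ample_eq_zero k hd hd0 hA hW ?_) (Nat.zero_le _)
    exact tIso (tIso (powOne Q') (Iso.refl _)) (tIso (unitL Q) (Iso.refl _)) ≪≫ interchange _ _ _ _ ≪≫
      tIso (comm Q' Q ≪≫ e) ((pullTensor i _ _).symm ≪≫ (Scheme.Modules.pullback i).mapIso
        (ProjTwistLib.mulIso (𝒜 := CohB1.polyGrading n k) (show (1 : ℤ) + -1 = 0 by ring) (CMRegLib.hasUnit 1)) ≪≫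
          oZero k i) ≪≫ unitL _

theorem dim_supp_lt {C : X.Modules} (hC : Coh.IsCoh C) (h : genericPoint X ∉ CohB1.support C) {d : ℕ}
    (hd : topologicalKrullDim X = (d : WithBot ℕ∞)) :
    topologicalKrullDim (CohB1.support C) < (d : WithBot ℕ∞) :=
  HilbLib.dim_lt_of_notMem (ξ := genericPoint X) (DevLib.isClosed_support hC)
    (by rw [(genericPoint_spec X).def]; exact Set.subset_univ _) h
    (lt_of_le_of_lt ((Topology.IsInducing.subtypeVal.topologicalKrullDim_le).trans hd.le)
      (by exact_mod_cast Nat.lt_succ_self d))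

omit [IsIntegral X] in
/-- Regularity from a hyperplane section, with named terms. -/
theorem drop_of_seq [IsClosedImmersion i] {S : ShortComplex X.Modules} {A F G : X.Modules} (hF : Coh.IsCoh F)
    (hA : Coh.IsCoh A) (e : A ≅ Pic13.twistOn k i F (-1)) (hS : S.ShortExact) (e₁ : S.X₁ = A) (e₂ : S.X₂ = F)
    (e₃ : S.X₃ = G) {m : ℤ} (hm : CMRegLib.DataReg (CMRegLib.xData k i G) m) :
    (∀ (q : ℕ) (j : ℤ), 2 ≤ q → m - q ≤ j → Subsingleton (Coh.HH X (Pic13.twistOn k i F j) q)) ∧
      (∀ j : ℤ, m - 1 ≤ j → CMRegLib.xh1 k i F j ≤ CMRegLib.xh1 k i F (j - 1)) ∧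
      (∀ j : ℤ, m - 1 + (CMRegLib.xh1 k i F (m - 1) : ℤ) ≤ j →
        Subsingleton (Coh.HH X (Pic13.twistOn k i F j) 1)) ∧
      Pic13.IsMRegular k i F (m + CMRegLib.xh1 k i F (m - 1)) := by
  subst e₁ e₂ e₃
  exact CMRegLib.xDrop_main (k := k) (i := i) hF hA e hS hm

/-- A hyperplane section. -/
theorem exists_section_seq : ∃ (A : X.Modules) (f : A ⟶ Coh.structureModule X),
    Mono f ∧ genericPoint X ∉ CohB1.support (cokernel f) ∧
      Nonempty (A ≅ Pic13.twistOn k i (Coh.structureModule X) (-1)) ∧ Coh.IsCoh A := by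
  haveI := EulerIneqLib.isNoetherian_proper (X := X) k
  let O := Coh.structureModule X
  have hOi : PicF.IsInvertible O := ParaFLib.isInvertible_structureModule
  let D := CMRegLib.xData k i O
  obtain ⟨v, hv⟩ := Opens.mem_iSup.1 (show genericPoint X ∈ iSup D.U by rw [D.cover]; trivial)
  let A₀ := Pic13.twistOn k i O (0 - 1)
  have hA₀i : PicF.IsInvertible A₀ := isInvertible_tensor hOi (isInvertible_xO k i _)
  let f : A₀ ⟶ O := D.μ v 0 ≫ (twistZero k i O).hom
  have hf : f ≠ 0 := fun h => by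
    have hμ : D.μ v 0 = 0 := (cancel_mono (twistZero k i O).hom).1 (h.trans zero_comp.symm)
    obtain ⟨g, hg⟩ := ParaFLib.exists_stalk_gen (L := D.F (0 - 1)) hA₀i (genericPoint X)
    have h0 : stalkLin (D.μ v 0) (genericPoint X) g = 0 := by
      obtain ⟨U, hU, s, rfl⟩ := TopCat.Presheaf.exists_germ_eq (D.F (0 - 1)).presheaf g
      rw [hμ, stalkLin_germ _ _ hU]
      exact map_zero _
    have hg0 : g = 0 := (D.bij v 0 (genericPoint X) hv).1 (h0.trans (map_zero _).symm)
    exact one_ne_zero (hg.1 (((one_smul _ g).trans hg0).trans (zero_smul _ g).symm))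
  haveI := CurveLib.mono_of_ne_zero hA₀i hOi hf
  exact ⟨A₀, f, this, CurveLib.genericPoint_notMem_support hA₀i hOi hf,
    ⟨eqToIso (congrArg (Pic13.twistOn k i O) (show (0 : ℤ) - 1 = -1 by norm_num))⟩,
    CurveLib.isCoh_of_isInvertible hA₀i⟩

section Seq

variable {A G : X.Modules} {f : A ⟶ Coh.structureModule X} {π : Coh.structureModule X ⟶ G} {w : f ≫ π = 0}
  (hS : (ShortComplex.mk f π w).ShortExact) (eA : A ≅ Pic13.twistOn k i (Coh.structureModule X) (-1))
  (hA : Coh.IsCoh A) (hG : Coh.IsCoh G)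

include hS eA hA hG

theorem regular_part [IsClosedImmersion i] (hV : UV k i G) :
    ∃ m : ℤ, ∀ Q : X.Modules, PicF.IsInvertible Q → Pic13.IsNumEquivZero k X Q →
      (∀ (q : ℕ) (j : ℤ), 2 ≤ q → m - q ≤ j → Subsingleton (Coh.HH X (T k i (Coh.structureModule X) Q j) q)) ∧
      (∀ j : ℤ, m - 1 + (Module.finrank k (Coh.HH X (T k i (Coh.structureModule X) Q (m - 1)) 1) : ℤ) ≤ j →
        Subsingleton (Coh.HH X (T k i (Coh.structureModule X) Q j) 1)) := by
  haveI := EulerIneqLib.isNoetherian_proper (X := X) k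
  obtain ⟨j₁, hj₁⟩ := hV
  refine ⟨j₁ + n + 1, fun Q hQ hn => ?_⟩
  have hm : CMRegLib.DataReg (CMRegLib.xData k i (CohB1.tensorMod G Q)) (j₁ + n + 1) := fun q hq => by
    rcases le_or_gt q (n + 1) with h | h
    · exact hj₁ Q hQ hn (j₁ + n + 1 - q) (by omega) q (by omega)
    · exact vanish_high_X k i (CMRegLib.isCoh_tensor_inv hG hQ) _ (by omega)
  obtain ⟨h₁, -, h₂, -⟩ := drop_of_seq k i (F := CohB1.tensorMod (Coh.structureModule X) Q)
    (G := CohB1.tensorMod G Q) (A := CohB1.tensorMod A Q)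
    (CMRegLib.isCoh_tensor_inv (DevLib.isCoh_structureModule X) hQ) (CMRegLib.isCoh_tensor_inv hA hQ)
    (stepIso k i eA Q) (CurveLib.shortExact_tensR hS (CurveLib.freeAt_one_of_isInvertible hQ)) rfl rfl rfl hm
  exact ⟨h₁, h₂⟩

omit hG in
theorem sections_down {Q : X.Modules} (hQ : PicF.IsInvertible Q) (j : ℤ) :
    VolLib.h k (T k i (Coh.structureModule X) Q (j - 1)) ≤ VolLib.h k (T k i (Coh.structureModule X) Q j) :=
  (VolLib.h_congr k (stepIso' k i eA Q j)).ge.trans
    (h_mono_of_eq (k := k) (A := T k i A Q j) (B := T k i (Coh.structureModule X) Q j)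
      ((CMRegLib.xTens k i j).map ((CurveLib.tensR Q).map f))
      (shortExact_T k i hS hQ j).mono_f rfl rfl (isCoh_T k i (DevLib.isCoh_structureModule X) hQ j))

theorem sections_up {Q : X.Modules} (hQ : PicF.IsInvertible Q) (j : ℤ) :
    VolLib.h k (T k i (Coh.structureModule X) Q j) ≤
      VolLib.h k (T k i (Coh.structureModule X) Q (j - 1)) + VolLib.h k (T k i G Q j) :=
  (h_le_add_of_eq (k := k) (shortExact_T k i hS hQ j) (A := T k i A Q j) (B := T k i (Coh.structureModule X) Q j)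
    (C := T k i G Q j) rfl rfl rfl (isCoh_T k i hA hQ j) (isCoh_T k i (DevLib.isCoh_structureModule X) hQ j)
    (isCoh_T k i hG hQ j)).trans
    (add_le_add (VolLib.h_congr k (stepIso' k i eA Q j)).le le_rfl)

theorem sections_bound [IsClosedImmersion i] {d : ℕ} (hd : topologicalKrullDim X = (d : WithBot ℕ∞))
    (hH : UH k i G) : UH k i (Coh.structureModule X) := by
  obtain ⟨C₀, hC₀⟩ := exists_h_neg_one k i hd
  intro j
  induction j using Int.inductionOn' (b := -1) with
  | zero => exact ⟨C₀, hC₀⟩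
  | succ j _ ih =>
    obtain ⟨C, hC⟩ := ih
    obtain ⟨C', hC'⟩ := hH (j + 1)
    refine ⟨C + C', fun Q hQ hn => ?_⟩
    have := sections_up k i hS eA hA hG hQ (j + 1)
    rw [add_sub_cancel_right] at this
    exact this.trans (add_le_add (hC Q hQ hn) (hC' Q hQ hn))
  | pred j _ ih =>
    obtain ⟨C, hC⟩ := ih
    exact ⟨C, fun Q hQ hn => (sections_down k i hS eA hA hQ j).trans (hC Q hQ hn)⟩

theorem euler_step (hE : UE k i G) {Q : X.Modules} (hQ : PicF.IsInvertible Q) (hn : Pic13.IsNumEquivZero k X Q)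
    (j : ℤ) : Curv2.euler k X (T k i (Coh.structureModule X) Q j) =
      Curv2.euler k X (T k i (Coh.structureModule X) Q (j - 1)) + Curv2.euler k X (Pic13.twistOn k i G j) := by
  rw [← hE Q hQ hn j, ← CurveLib.euler_iso (K := k) (stepIso' k i eA Q j)]
  exact euler_T (i := i) hS hA (DevLib.isCoh_structureModule X) hG hQ j

end Seq

theorem euler_cut {P : X.Modules} (hP : PicF.IsInvertible P) (t : Coh.structureModule X ⟶ P) [Mono t]
    (hC : UE k i (cokernel t)) {Q : X.Modules} (hQ : PicF.IsInvertible Q) (hn : Pic13.IsNumEquivZero k X Q) :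
    Curv2.euler k X (T k i P Q 0) =
      Curv2.euler k X (T k i (Coh.structureModule X) Q 0) + Curv2.euler k X (Pic13.twistOn k i (cokernel t) 0) := by
  haveI := EulerIneqLib.isNoetherian_proper (X := X) k
  have hPc := CurveLib.isCoh_of_isInvertible hP
  rw [← hC Q hQ hn 0]
  exact euler_T (i := i) (CMRegLib.shortExact_coker t) (DevLib.isCoh_structureModule X) hPc
    (QCohLib.isCoh_kernel_cokernel t (DevLib.isCoh_structureModule X) hPc).2 hQ 0

variable [IsClosedImmersion i]

theorem delta_add {d : ℕ} (hd : topologicalKrullDim X = (d : WithBot ℕ∞))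
    (hyp : ∀ C : X.Modules, Coh.IsCoh C → topologicalKrullDim (CohB1.support C) < (d : WithBot ℕ∞) → UE k i C)
    {Q Q' : X.Modules} (hQ : PicF.IsInvertible Q) (hn : Pic13.IsNumEquivZero k X Q) (hQ' : PicF.IsInvertible Q') :
    ∃ a : ℤ, Curv2.euler k X (T k i (Coh.structureModule X) (CohB1.tensorMod Q' Q) a) -
        Curv2.euler k X (T k i (Coh.structureModule X) Q' a) =
      Curv2.euler k X (T k i (Coh.structureModule X) Q 0) -
        Curv2.euler k X (T k i (Coh.structureModule X) (Coh.structureModule X) 0) := by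
  haveI := EulerIneqLib.isNoetherian_proper (X := X) k
  obtain ⟨a, ha⟩ := Nakai.exists_h_ne_zero k (isAmple_pullback i (AmpleEmb.isAmple_twistOne n k)) hQ'
  refine ⟨(a : ℤ), ?_⟩
  have hPi : PicF.IsInvertible (T k i (Coh.structureModule X) Q' (a : ℤ)) :=
    isInvertible_tensor (isInvertible_tensor ParaFLib.isInvertible_structureModule hQ') (isInvertible_xO k i _)
  have hP0 : VolLib.h k (T k i (Coh.structureModule X) Q' (a : ℤ)) ≠ 0 := by
    refine fun h => ha a le_rfl ((VolLib.h_congr k ?_).trans h)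
    exact tIso (unitL Q').symm ((pullPow i _ a).symm ≪≫ (Scheme.Modules.pullback i).mapIso (CMRegLib.powTwistIso a))
  obtain ⟨t, ht⟩ := exists_section_ne_zero k hP0
  haveI := CurveLib.mono_of_ne_zero ParaFLib.isInvertible_structureModule hPi ht
  have hC := (QCohLib.isCoh_kernel_cokernel t (DevLib.isCoh_structureModule X)
    (CurveLib.isCoh_of_isInvertible hPi)).2
  have hCE := hyp _ hC (dim_supp_lt hC
    (CurveLib.genericPoint_notMem_support ParaFLib.isInvertible_structureModule hPi ht) hd)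
  have e1 := euler_cut k i hPi t hCE hQ hn
  have e2 := euler_cut k i hPi t hCE ParaFLib.isInvertible_structureModule (numTriv_unit k)
  rw [CurveLib.euler_iso (K := k) (swapIso k i Q Q' a)] at e1
  rw [CurveLib.euler_iso (K := k) (swapIso k i (Coh.structureModule X) Q' a ≪≫ qCongr k i _ (unitR Q') _)] at e2
  omega

/-- An additive function bounded above on numerically trivial modules vanishes. -/
theorem eq_zero_of_additive (δ : X.Modules → ℤ) (B : ℤ) (hiso : ∀ {Q Q' : X.Modules}, (Q ≅ Q') → δ Q = δ Q')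
    (hO : δ (Coh.structureModule X) = 0)
    (hadd : ∀ Q Q' : X.Modules, PicF.IsInvertible Q → Pic13.IsNumEquivZero k X Q → PicF.IsInvertible Q' →
      Pic13.IsNumEquivZero k X Q' → δ (CohB1.tensorMod Q' Q) = δ Q' + δ Q)
    (hle : ∀ Q : X.Modules, PicF.IsInvertible Q → Pic13.IsNumEquivZero k X Q → δ Q ≤ B)
    {Q : X.Modules} (hQ : PicF.IsInvertible Q) (hn : Pic13.IsNumEquivZero k X Q) : δ Q = 0 := by
  have hnonpos : ∀ Q : X.Modules, PicF.IsInvertible Q → Pic13.IsNumEquivZero k X Q → δ Q ≤ 0 := by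
    intro Q hQ hn
    have hpow : ∀ r : ℕ, δ (CohB1.tensorPow Q r) = r * δ Q := by
      intro r
      induction r with
      | zero => exact hO.trans (by simp)
      | succ r ih =>
        show δ (CohB1.tensorMod (CohB1.tensorPow Q r) Q) = _
        rw [hadd Q _ hQ hn (isInvertible_tensorPow hQ r) (numTriv_pow k hQ hn r), ih]
        push_cast
        ring
    by_contra hc
    have h1 := hle _ (isInvertible_tensorPow hQ (B.toNat + 1)) (numTriv_pow k hQ hn _)
    rw [hpow] at h1
    push_cast at h1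
    nlinarith [Int.self_le_toNat B, not_le.1 hc]
  obtain ⟨Q', hQ', ⟨e⟩⟩ := AmpleEmb.exists_isInverseOf hQ
  have hn' := numTriv_inverse k hQ hQ' e hn
  have h1 : δ (CohB1.tensorMod Q Q') = 0 := (hiso e).trans hO
  rw [hadd Q' Q hQ' hn' hQ hn] at h1
  have := hnonpos Q hQ hn
  have := hnonpos Q' hQ' hn'
  omega

/-- The uniform properties of the structure sheaf from those of smaller modules. -/
theorem core {d : ℕ} (hd : topologicalKrullDim X = (d : WithBot ℕ∞))
    (hyp : ∀ C : X.Modules, Coh.IsCoh C → topologicalKrullDim (CohB1.support C) < (d : WithBot ℕ∞) →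
      UV k i C ∧ UE k i C ∧ UH k i C) :
    UV k i (Coh.structureModule X) ∧ UE k i (Coh.structureModule X) ∧ UH k i (Coh.structureModule X) := by
  haveI := EulerIneqLib.isNoetherian_proper (X := X) k
  obtain ⟨A, f, hf, hgen, ⟨eA⟩, hA⟩ := exists_section_seq k i
  haveI := hf
  have hG : Coh.IsCoh (cokernel f) :=
    (QCohLib.isCoh_kernel_cokernel f hA (DevLib.isCoh_structureModule X)).2
  obtain ⟨hV, hE, hH⟩ := hyp _ hG (dim_supp_lt hG hgen hd)
  have hS := CMRegLib.shortExact_coker f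
  obtain ⟨m, hm⟩ := regular_part k i hS eA hA hG hV
  have hUH := sections_bound k i hS eA hA hG hd hH
  obtain ⟨E, hEdef⟩ : ∃ E : X.Modules → ℤ → ℤ,
      ∀ Q j, E Q j = Curv2.euler k X (T k i (Coh.structureModule X) Q j) := ⟨_, fun _ _ => rfl⟩
  obtain ⟨O, rfl⟩ : ∃ O, O = Coh.structureModule X := ⟨_, rfl⟩
  have hOi : PicF.IsInvertible (Coh.structureModule X) := ParaFLib.isInvertible_structureModule
  have hstep : ∀ Q : X.Modules, PicF.IsInvertible Q → Pic13.IsNumEquivZero k X Q → ∀ j,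
      E Q j = E Q (j - 1) + Curv2.euler k X (Pic13.twistOn k i (cokernel f) j) := fun Q hQ hn j => by
    rw [hEdef, hEdef]
    exact euler_step k i hS eA hA hG hE hQ hn j
  obtain ⟨δ, hδdef⟩ : ∃ δ : X.Modules → ℤ, ∀ Q, δ Q = E Q 0 - E (Coh.structureModule X) 0 := ⟨_, fun _ => rfl⟩
  have hconst : ∀ Q : X.Modules, PicF.IsInvertible Q → Pic13.IsNumEquivZero k X Q → ∀ j,
      E Q j = δ Q + E (Coh.structureModule X) j := by
    intro Q hQ hn j
    induction j using Int.inductionOn' (b := 0) with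
    | zero => rw [hδdef]; ring
    | succ j _ ih =>
      have a := hstep Q hQ hn (j + 1)
      have b := hstep _ hOi (numTriv_unit k) (j + 1)
      rw [add_sub_cancel_right] at a b
      omega
    | pred j _ ih =>
      have a := hstep Q hQ hn j
      have b := hstep _ hOi (numTriv_unit k) j
      omega
  obtain ⟨Cm, hCm⟩ := hUH (m - 1)
  have hH1 : ∀ Q : X.Modules, PicF.IsInvertible Q → Pic13.IsNumEquivZero k X Q →
      (Module.finrank k (Coh.HH X (T k i (Coh.structureModule X) Q (m - 1)) 1) : ℤ) ≤ (Cm : ℤ) - E Q (m - 1) := by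
    intro Q hQ hn
    have c : Module.finrank k (Coh.HH X (T k i (Coh.structureModule X) Q (m - 1)) 0) ≤ Cm := hCm Q hQ hn
    rw [hEdef, CurveLib.euler_eq_sum (K := k) _ 2 fun q hq => (hm Q hQ hn).1 q (m - 1) hq (by omega),
      Finset.sum_range_succ, Finset.sum_range_one]
    simp only [pow_zero, one_mul, pow_one, neg_one_mul]
    omega
  have hδ : ∀ Q : X.Modules, PicF.IsInvertible Q → Pic13.IsNumEquivZero k X Q → δ Q = 0 := fun Q hQ hn => by
    refine eq_zero_of_additive k δ ((Cm : ℤ) - E (Coh.structureModule X) (m - 1)) (fun e => ?_) ?_ ?_ ?_ hQ hn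
    · simp only [hδdef, hEdef]
      exact congrArg (· - _) (CurveLib.euler_iso (K := k) (qCongr k i _ e 0))
    · rw [hδdef, sub_self]
    · intro Q Q' hQ hn hQ' hn'
      obtain ⟨a, ha⟩ := delta_add k i hd (fun C hC hC' => (hyp C hC hC').2.1) hQ hn hQ'
      rw [← hEdef, ← hEdef, ← hEdef, ← hEdef, hconst _ (isInvertible_tensor hQ' hQ) (numTriv_tensor k hQ' hQ hn' hn),
        hconst _ hQ' hn', ← hδdef] at ha
      omega
    · intro Q hQ hn
      have a := hH1 Q hQ hn
      have b := hconst Q hQ hn (m - 1)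
      omega
  refine ⟨⟨m - 1 + ((Cm : ℤ) - E (Coh.structureModule X) (m - 1)).toNat, fun Q hQ hn j hj p hp => ?_⟩,
    fun Q hQ hn j => ?_, hUH⟩
  · rcases Nat.lt_or_ge p 2 with h | h
    · obtain rfl : p = 1 := by omega
      refine (hm Q hQ hn).2 j ?_
      have a := hH1 Q hQ hn
      have b := hconst Q hQ hn (m - 1)
      have e := hδ Q hQ hn
      omega
    · exact (hm Q hQ hn).1 p j h (by omega)
  · rw [← hEdef, hconst Q hQ hn j, hδ Q hQ hn, zero_add, hEdef]
    exact CurveLib.euler_iso (K := k) (tIso (unitR _) (Iso.refl _))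

end Groth.Agent.NumBdd
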