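import Groth.Agent.H1ZeroLib.Embed
import Groth.Agent.RelVALib.Immersion
import Groth.Agent.AmpleEmb.RelAmple

/-!
# The tensor product of a very ample module with a module generated by finitely many sections
-/

set_option autoImplicit false
set_option backward.isDefEq.respectTransparency false
set_option backward.isDefEq.respectTransparency.types false
set_option linter.style.haveILetI false

universe u

open CategoryTheory CategoryTheory.Limits AlgebraicGeometry TopologicalSpace Opposite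
open Groth.Agent.PullbackMod Groth.Agent.DCohLib Groth.Agent.ParaFLib Groth.Agent.AmpleLib

noncomputable section

namespace Groth.Agent.VATensor

variable {X Y : Scheme.{u}}

/-- Restriction of functions. -/
abbrev rs {U W : X.Opens} (h : W ≤ U) : Γ(X, U) →+* Γ(X, W) := (X.presheaf.map (homOfLE h).op).hom

theorem rs_rs {U V W : X.Opens} (h₁ : V ≤ U) (h₂ : W ≤ V) (z : Γ(X, U)) : rs h₂ (rs h₁ z) = rs (h₂.trans h₁) z :=
  (ConcreteCategory.comp_apply _ _ z).symm.trans (ConcreteCategory.congr_hom (X.presheaf.map_comp _ _).symm z)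

theorem resT_res {P : X.Modules} (σ : Γ(P, ⊤)) {U W : X.Opens} (h : W ≤ U) :
    P.presheaf.map (homOfLE h).op (resT σ U) = resT σ W :=
  ParaFLib.res_res le_top h σ

theorem ratio_res {P : X.Modules} {σ σ' : Γ(P, ⊤)} {U W : X.Opens} (h : W ≤ U) {r : Γ(X, U)}
    (hr : r • resT σ U = resT σ' U) : rs h r • resT σ W = resT σ' W := by
  rw [← resT_res σ h, ← resT_res σ' h, ← hr]
  exact (P.map_smul _ _ _).symm

theorem mem_of_local {U W : X.Opens} (hU : IsAffineOpen U) (hW : W ≤ U) (R : Subring Γ(X, W))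
    (hR : ∀ g : Γ(X, U), rs hW g ∈ R) (h : Γ(X, W))
    (hloc : ∀ x ∈ U, ∃ g : Γ(X, U), x ∈ X.basicOpen g ∧ ∃ M : ℕ, rs hW g ^ M * h ∈ R) : h ∈ R := by
  let I : Ideal Γ(X, U) :=
    { carrier := {z | rs hW z * h ∈ R}
      add_mem' := fun {a b} ha hb => by
        show rs hW (a + b) * h ∈ R
        rw [map_add, add_mul]
        exact add_mem ha hb
      zero_mem' := by
        show rs hW 0 * h ∈ R
        rw [map_zero, zero_mul]
        exact zero_mem R
      smul_mem' := fun c z hz => by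
        show rs hW (c * z) * h ∈ R
        rw [map_mul, mul_assoc]
        exact mul_mem (hR c) hz }
  let s : Set Γ(X, U) := {g | ∃ M : ℕ, rs hW g ^ M * h ∈ R}
  have hsI : s ⊆ (I.radical : Set Γ(X, U)) := fun g ⟨M, hM⟩ => ⟨M, by
    show rs hW (g ^ M) * h ∈ R
    rwa [map_pow]⟩
  have hs : Ideal.span s = ⊤ := by
    rw [← hU.iSup_basicOpen_eq_self_iff]
    refine le_antisymm (iSup_le fun g => X.basicOpen_le _) fun x hx => ?_
    obtain ⟨g, hxg, hg⟩ := hloc x hx
    exact Opens.mem_iSup.2 ⟨⟨g, hg⟩, hxg⟩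
  have hI : I = ⊤ := Ideal.radical_eq_top.1 (eq_top_iff.2 (hs.ge.trans (Ideal.span_le.2 hsI)))
  have h1 : (1 : Γ(X, U)) ∈ I := hI ▸ Submodule.mem_top
  simpa using (show rs hW 1 * h ∈ R from h1)

theorem pow_mul_mem {C : X.Modules} (hC : PicF.IsInvertible C) (tb tc : Coh.structureModule X ⟶ C)
    {U W : X.Opens} (hU : IsAffineOpen U) (hWU : W = U ⊓ CohB1.genLocus C tb) (r : Γ(X, W))
    (hr : r • resT (sec tb) W = resT (sec tc) W) (g : Γ(X, U)) (hg : X.basicOpen g ≤ CohB1.genLocus C tc)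
    (R : Subring Γ(X, W)) (hR : ∀ g : Γ(X, U), rs (hWU.le.trans inf_le_left) g ∈ R) (hrR : r ∈ R) (h : Γ(X, W)) :
    ∃ M : ℕ, rs (hWU.le.trans inf_le_left) g ^ M * h ∈ R := by
  have hWa : IsAffineOpen W := by
    rw [hWU, inf_comm]
    exact isAffineOpen_inf_genLocus hC tb hU
  have hW : W ≤ U := hWU.le.trans inf_le_left
  have hD : X.basicOpen g ≤ U := X.basicOpen_le g
  have he : Gen (X.basicOpen g) (resT (sec tc) (X.basicOpen g)) := by
    have := (AmpleEmb.gen_genLocus hC tc).res hg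
    rwa [resT_res] at this
  obtain ⟨ρ, hρ⟩ := (he _ le_rfl).2 (resT (sec tb) (X.basicOpen g))
  simp only [ParaFLib.res_self] at hρ
  have hE : CohB1.genLocus C tb ⊓ X.basicOpen g = X.basicOpen ρ := genLocus_inf_eq_basicOpen tb he hρ
  have hBD : X.basicOpen ρ ≤ X.basicOpen g := X.basicOpen_le ρ
  have hBW : X.basicOpen ρ ≤ W := fun x hx =>
    hWU.ge ⟨hD (hBD hx), (hE.ge hx).1⟩
  have hB' : X.basicOpen (rs hW g) ≤ X.basicOpen ρ := by
    rw [show X.basicOpen (rs hW g) = W ⊓ X.basicOpen g from Scheme.basicOpen_res X g (homOfLE hW).op]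
    exact fun x hx => hE.le ⟨(hWU.le hx.1).2, hx.2⟩
  have hone : rs hBW r * rs hBD ρ = 1 := by
    have hge : Gen (X.basicOpen ρ) (resT (sec tc) (X.basicOpen ρ)) := by
      have := he.res hBD
      rwa [resT_res] at this
    refine (hge _ le_rfl).1 ?_
    simp only [ParaFLib.res_self]
    rw [mul_smul, ratio_res hBD hρ, ratio_res hBW hr, one_smul]
  obtain ⟨k, φ, hφ⟩ := exists_eq_pow_mul_of_isAffineOpen X _ (hU.basicOpen g) ρ (rs hBW h)
  obtain ⟨m, ψ, hψ⟩ := exists_eq_pow_mul_of_isAffineOpen X U hU g φ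
  have hφ' : rs hBD φ = rs hBD ρ ^ k * rs hBW h := hφ
  have hψ' : rs hD ψ = rs hD g ^ m * φ := hψ
  have hz : rs hBW (rs hW g ^ m * h - r ^ k * rs hW ψ) = 0 := by
    have hψ'' : rs hBW (rs hW ψ) = rs hBW (rs hW g) ^ m * rs hBD φ := by
      rw [rs_rs, rs_rs, ← rs_rs hD hBD ψ, hψ', map_mul, map_pow, rs_rs]
    rw [map_sub, map_mul, map_mul, map_pow, map_pow, hψ'', hφ',
      show rs hBW r ^ k * (rs hBW (rs hW g) ^ m * (rs hBD ρ ^ k * rs hBW h)) =
        (rs hBW r * rs hBD ρ) ^ k * (rs hBW (rs hW g) ^ m * rs hBW h) by ring, hone, one_pow, one_mul, sub_self]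
  obtain ⟨l, hl⟩ := exists_pow_mul_eq_zero_of_res_basicOpen_eq_zero_of_isAffineOpen X hWa
    (rs hW g ^ m * h - r ^ k * rs hW ψ) (rs hW g) (by
      show rs (X.basicOpen_le _) _ = 0
      rw [← rs_rs hBW hB', hz, map_zero])
  refine ⟨l + m, ?_⟩
  rw [mul_sub, sub_eq_zero, ← mul_assoc, ← pow_add] at hl
  exact hl ▸ mul_mem (pow_mem (hR g) _) (mul_mem (pow_mem hrR _) (hR ψ))

theorem ratio_tensorS {L M : X.Modules} (s s' : Coh.structureModule X ⟶ L) (t t' : Coh.structureModule X ⟶ M)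
    {W : X.Opens} {x y : Γ(X, W)} (hx : x • resT (sec s) W = resT (sec s') W)
    (hy : y • resT (sec t) W = resT (sec t') W) :
    (x * y) • resT (sec (tensorS s t)) W = resT (sec (tensorS s' t')) W := by
  have key : ∀ (s : Coh.structureModule X ⟶ L) (t : Coh.structureModule X ⟶ M),
      resT (sec (tensorS s t)) W = pairS L M (resT (sec s) W) (resT (sec t) W) := fun s t => by
    rw [show sec (tensorS s t) = pairS L M (sec s) (sec t) from sec_secHom (L := tmod L M) _]
    exact res_pairS le_top (sec s) (sec t)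
  rw [key, key, ← hx, ← hy, pairS_smul_left, pairS_smul_right, smul_smul]

theorem eq_of_gen {P : X.Modules} {W : X.Opens} {e v : Γ(P, W)} (he : Gen W e) {x y : Γ(X, W)}
    (hx : x • e = v) (hy : y • e = v) : x = y :=
  (he W le_rfl).1 (by
    simp only [ParaFLib.res_self]
    exact hx.trans hy.symm)

theorem surjective_eval (q : X ⟶ Y) {P C : X.Modules} (hP : PicF.IsInvertible P) (hC : PicF.IsInvertible C) {n r : ℕ}
    {s : Fin (n + 1) → (Coh.structureModule X ⟶ P)} (hemb : RelVALib.EmbGen q s)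
    (t : Fin r → (Coh.structureModule X ⟶ C)) (ht : ∀ x, ∃ b, x ∈ CohB1.genLocus C (t b)) (a : Fin (n + 1))
    (b : Fin r) {W : X.Opens} (hWU : W = CohB1.genLocus P (s a) ⊓ CohB1.genLocus C (t b)) {J : Type} (τ : J → Γ(X, W))
    (hval : ∀ (c : Fin (n + 1)) (d : Fin r) (x y : Γ(X, W)), x • resT (sec (s a)) W = resT (sec (s c)) W →
      y • resT (sec (t b)) W = resT (sec (t d)) W → ∃ j, τ j = x * y) :
    Function.Surjective (MvPolynomial.eval₂Hom (q.appLE ⊤ W (fun _ _ => trivial)).hom τ) := by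
  intro h
  let R : Subring Γ(X, W) := (MvPolynomial.eval₂Hom (q.appLE ⊤ W (fun _ _ => trivial)).hom τ).range
  have hWA : W ≤ CohB1.genLocus P (s a) := hWU.le.trans inf_le_left
  have hWC : W ≤ CohB1.genLocus C (t b) := hWU.le.trans inf_le_right
  have hmem : ∀ (c : Fin (n + 1)) (d : Fin r) (x y : Γ(X, W)), x • resT (sec (s a)) W = resT (sec (s c)) W →
      y • resT (sec (t b)) W = resT (sec (t d)) W → x * y ∈ R := fun c d x y hx hy => by
    obtain ⟨j, hj⟩ := hval c d x y hx hy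
    exact ⟨MvPolynomial.X j, by rw [MvPolynomial.eval₂Hom_X', hj]⟩
  choose σ hσ using fun c =>
    ((AmpleEmb.gen_genLocus hP (s a)) _ le_rfl).2 (resT (sec (s c)) (CohB1.genLocus P (s a)))
  simp only [ParaFLib.res_self] at hσ
  have hR : ∀ g : Γ(X, CohB1.genLocus P (s a)), rs hWA g ∈ R := by
    intro g
    obtain ⟨p, rfl⟩ := hemb.surj a σ hσ g
    induction p using MvPolynomial.induction_on with
    | C z =>
      rw [MvPolynomial.eval₂Hom_C]
      refine ⟨MvPolynomial.C z, ?_⟩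
      rw [MvPolynomial.eval₂Hom_C]
      exact (ConcreteCategory.congr_hom (Scheme.Hom.appLE_map q (U := ⊤) (fun _ _ => trivial) (homOfLE hWA).op) z).symm
    | add p p' hp hp' =>
      rw [map_add, map_add]
      exact add_mem hp hp'
    | mul_X p c hp =>
      rw [map_mul, map_mul, MvPolynomial.eval₂Hom_X']
      refine mul_mem hp ?_
      simpa using hmem c b (rs hWA (σ c)) 1 (ratio_res hWA (hσ c)) (one_smul _ _)
  refine mem_of_local (hemb.affine a) hWA R hR h fun x hx => ?_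
  obtain ⟨d, hd⟩ := ht x
  obtain ⟨g, hg, hxg⟩ := (hemb.affine a).exists_basicOpen_le
    (V := CohB1.genLocus P (s a) ⊓ CohB1.genLocus C (t d)) ⟨x, hx, hd⟩ hx
  obtain ⟨y, hy⟩ := ((AmpleEmb.gen_genLocus hC (t b)).res hWC W le_rfl).2 (resT (sec (t d)) W)
  simp only [ParaFLib.res_self, resT_res] at hy
  refine ⟨g, hxg, pow_mul_mem hC (t b) (t d) (hemb.affine a) hWU y hy g (hg.trans inf_le_right) R hR ?_ h⟩
  simpa using hmem a d 1 y (one_smul _ _) hy

/-- Very ample tensor a module generated by finitely many sections is very ample. -/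
theorem isRelVeryAmplePn_tensor [IsAffine Y] (q : X ⟶ Y) [IsProper q] {A C : X.Modules}
    (hA : RelAmple.IsRelVeryAmplePn q A) (hC : PicF.IsInvertible C) {r : ℕ}
    (t : Fin r → (Coh.structureModule X ⟶ C)) (ht : ∀ x, ∃ b, x ∈ CohB1.genLocus C (t b)) :
    RelAmple.IsRelVeryAmplePn q (CohB1.tensorMod A C) := by
  classical
  obtain ⟨n, i, hi, hf, ⟨θ⟩⟩ := hA
  haveI := hi
  haveI : IsProper (i ≫ CohB1.ProjSpaceOver.toBase n Y) := hf.symm ▸ ‹IsProper q›
  haveI : IsSeparated (CohB1.ProjSpaceOver.toBase n Y) := inferInstance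
  haveI : IsProper i := IsProper.of_comp i (CohB1.ProjSpaceOver.toBase n Y)
  haveI : IsClosedImmersion i := (IsClosedImmersion.iff_isProper_and_mono _).2 ⟨inferInstance, inferInstance⟩
  let P := (Scheme.Modules.pullback i).obj (Twist.twistOver n Y 1)
  have hP : PicF.IsInvertible P := isInvertible_pullback i (AmpleEmb.isInvertible_twistOver n)
  let s : Fin (n + 1) → (Coh.structureModule X ⟶ P) := RelVALib.coordPull i
  have hemb : RelVALib.EmbGen q s := RelVALib.embGen_coordPull i hf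
  refine AmpleEmb.isRelVeryAmplePn_of_iso (tIso θ.symm (Iso.refl C)) ?_
  let Q := CohB1.tensorMod P C
  have hQ : PicF.IsInvertible Q := isInvertible_tensor hP hC
  let u : Option (Fin (n + 1) × Fin r) → (Coh.structureModule X ⟶ Q) := fun o =>
    o.elim (secHom Q 0) fun p => tensorS (s p.1) (t p.2)
  have hloc : ∀ a b, CohB1.genLocus Q (u (some (a, b))) = CohB1.genLocus P (s a) ⊓ CohB1.genLocus C (t b) :=
    fun a b => genLocus_tensorS hP hC (s a) (t b)
  have haff : ∀ o, IsAffineOpen (CohB1.genLocus Q (u o)) := by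
    rintro (_ | ⟨a, b⟩)
    · exact (AmpleEmb.genLocus_zero hQ).symm ▸ isAffineOpen_bot X
    · rw [hloc, inf_comm]
      exact isAffineOpen_inf_genLocus hC (t b) (hemb.affine a)
  obtain ⟨N, ⟨ε⟩⟩ : ∃ N, Nonempty (Fin (N + 1) ≃ Option (Fin (n + 1) × Fin r)) :=
    ⟨Fintype.card (Fin (n + 1) × Fin r),
      ⟨(finCongr Fintype.card_option.symm).trans (Fintype.equivFin _).symm⟩⟩
  choose τ hτ using fun o o' =>
    ((AmpleEmb.gen_genLocus hQ (u o)) _ le_rfl).2 (resT (sec (u o')) (CohB1.genLocus Q (u o)))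
  simp only [ParaFLib.res_self] at hτ
  have hgen : ∀ a b, Function.Surjective (MvPolynomial.eval₂Hom
      (q.appLE ⊤ (CohB1.genLocus Q (u (some (a, b)))) (fun _ _ => trivial)).hom
      (fun j => τ (some (a, b)) (ε j))) := fun a b =>
    surjective_eval q hP hC hemb t ht a b (hloc a b) (fun j => τ (some (a, b)) (ε j)) fun c d x y hx hy =>
      ⟨ε.symm (some (c, d)), by
        rw [Equiv.apply_symm_apply]
        exact eq_of_gen (AmpleEmb.gen_genLocus hQ (u (some (a, b)))) (hτ (some (a, b)) (some (c, d)))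
          (ratio_tensorS (s a) (s c) (t b) (t d) hx hy)⟩
  have hcov : ∀ x : X, ∃ j : Fin (N + 1), (∃ p, ε j = some p) ∧ x ∈ CohB1.genLocus Q (u (ε j)) := fun x => by
    obtain ⟨a, ha⟩ := hemb.cover x
    obtain ⟨b, hb⟩ := ht x
    refine ⟨ε.symm (some (a, b)), ⟨(a, b), ε.apply_symm_apply _⟩, ?_⟩
    rw [ε.apply_symm_apply, hloc]
    exact ⟨ha, hb⟩
  let F := AmpleEmb.familyOfSections hQ (fun j => u (ε j)) (fun j => haff _) (fun x => (hcov x).imp fun _ h => h.2)
    (fun j j' => τ (ε j) (ε j')) (fun j j' => hτ _ _)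
  refine AmpleEmb.isRelVeryAmplePn_of_ratios q F (Iso.refl Q) (fun j => u (ε j))
    (fun j => AmpleEmb.gen_genLocus hQ (u (ε j))) (fun j j' => hτ _ _) {j | ∃ p, ε j = some p} ?_ hcov
  rintro j ⟨⟨a, b⟩, hj⟩
  refine ⟨⊤, isAffineOpen_top Y, fun _ _ => trivial, ?_⟩
  show Function.Surjective (MvPolynomial.eval₂Hom
    (q.appLE ⊤ (CohB1.genLocus Q (u (ε j))) (fun _ _ => trivial)).hom (fun j' => τ (ε j) (ε j')))
  rw [hj]
  exact hgen a b

end Groth.Agent.VATensor
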